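import Cfsg.Agent.Omega.NO3S.OneS.Abs
import Cfsg.Agent.Involutions.BaerSuzuki

/-!
# THEOREM ONE_s (OMEGA, NO-3S, `s ≥ 4`; #18570 of helper49): the final form; K-free

`Fr.exists_line` : `O₂(H) = 1`, `A ≠ 1` minimal exact in `C_H(U) ∩ C_H(M/U)` ⟹ `[M, A]` contains a line vector.
`Fr.exists_line_le` : the same for an arbitrary exact `A ≠ 1`.
-/

set_option autoImplicit false
set_option maxHeartbeats 400000

namespace Cfsg.Agent.Omega.NO3S.OneS

open Subgroup Cfsg.Agent.ClassTwoFusion.Quad Cfsg.Agent.Omega.NOThree.NoOver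
open scoped Pointwise

variable {H : Type*} [Group H] {M : Type*} [Group M] [MulDistribMulAction H M]

namespace Fr

variable {lam U : Subgroup M} (F : Fr H lam U)
include F

/-- an element of odd order inverted by `f ∈ C_H(U) ∩ C_H(M/U)` moves `lam`, and `f` moves `h • lam` -/
theorem moves {f h : H} (hf : IsBB U f) (h1 : h ≠ 1) (hodd : Odd (orderOf h)) (hinv : f * h * f = h⁻¹) :
    f • h • lam ≠ h • lam := by
  intro hc
  have hff : f * f = 1 := F.bb_sq hf
  have hfl : f • lam = lam := smul_eq_of_fix fun x hx => hf.1 x (F.le hx)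
  have h2 : h⁻¹ * f * h = f * (h * h) := by
    rw [← hinv]
    have : f * h * f * f * h = f * h * (f * f) * h := by group
    rw [this, hff]
    group
  have h3 : (f * (h * h)) • lam = lam := by
    rw [← h2, mul_smul, mul_smul, hc, inv_smul_smul]
  have h4 : (h * h) • lam = lam := by
    rw [mul_smul, smul_eq_iff_eq_inv_smul, inv_eq_of_mul_eq_one_right hff, hfl] at h3
    exact h3
  have h5 : ∀ K : Subgroup H, h * h ∈ K → h ∈ K := by
    intro K hK
    obtain ⟨k, hk⟩ := hodd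
    have h6 : (h * h) ^ (k + 1) = h := by
      rw [← pow_two, ← pow_mul]
      have : 2 * (k + 1) = orderOf h + 1 := by omega
      rw [this, pow_succ, pow_orderOf_eq_one, one_mul]
    rw [← h6]
    exact K.pow_mem hK _
  have h6 : h ∈ MulAction.stabilizer H lam := h5 _ (MulAction.mem_stabilizer_iff.2 h4)
  have h7 : h⁻¹ • lam = lam := MulAction.mem_stabilizer_iff.1 (inv_mem h6)
  have h8 := isBB_conj h⁻¹ hf
  rw [F.stab _ h7, inv_inv, h2] at h8
  have h9 : IsBB U (h * h) := by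
    have h10 := (bb H F.sq U).mul_mem ((bb H F.sq U).inv_mem hf) h8
    have h11 : f⁻¹ * (f * (h * h)) = h * h := by group
    rw [h11] at h10
    exact h10
  have h10 := F.bb_sq h9
  apply h1
  have h11 : h ^ 4 = 1 := by
    have : h ^ 4 = (h * h) * (h * h) := by rw [← pow_two, ← pow_two, ← pow_mul]
    rw [this, h10]
  have h12 : Nat.Coprime (orderOf h) (2 ^ 2) := (Nat.coprime_two_right.2 hodd).pow_right 2
  exact orderOf_eq_one_iff.1 (Nat.Coprime.eq_one_of_dvd h12 (orderOf_dvd_of_pow_eq_one h11))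

/-- `O₂(H) = 1`, `A ≠ 1` minimal exact: `[M, A]` contains a line vector -/
theorem exists_line [Finite H] [Finite M] (T : TorAct H lam U ∨ CenAct H lam U) (hO : ∀ N : Subgroup H, N.Normal → IsPGroup 2 N → N = ⊥)
    {A : Subgroup H} (hA : ∀ a ∈ A, IsBB U a) (hne : A ≠ ⊥) (hex : fo M A = Nat.card M)
    (hmin : ∀ X ≤ A, X ≠ ⊥ → X ≠ A → fo M X < Nat.card M) : ∃ v ∈ br A, v ∈ Lam H lam := by
  obtain ⟨f, hf, hf1⟩ : ∃ f ∈ A, f ≠ 1 := by
    by_contra hcon
    push Not at hcon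
    exact hne ((Subgroup.eq_bot_iff_forall _).2 hcon)
  have hff := F.bb_sq (hA f hf)
  obtain ⟨h, h1, hodd, hinv⟩ := Cfsg.Agent.Involutions.BaerSuzuki.exists_odd_inverted f hff (by
    intro h2
    have h3 := hO _ inferInstance h2
    exact hf1 (mem_bot.1 (h3 ▸ subset_normalClosure rfl)))
  rw [inv_eq_of_mul_eq_one_right hff] at hinv
  exact F.exists_line_of T hA hex hmin hf hodd hinv (F.moves (hA f hf) h1 hodd hinv)

/-- every exact `A ≠ 1` contains a minimal one -/
theorem exists_line_le [Finite H] [Finite M] (T : TorAct H lam U ∨ CenAct H lam U) (hO : ∀ N : Subgroup H, N.Normal → IsPGroup 2 N → N = ⊥)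
    {A : Subgroup H} (hA : ∀ a ∈ A, IsBB U a) (hne : A ≠ ⊥) (hex : Nat.card M ≤ fo M A) :
    ∃ v ∈ br A, v ∈ Lam H lam := by
  obtain ⟨X, ⟨hXA, hX1, hX2⟩, hmin⟩ := Set.exists_min_image
    {X : Subgroup H | X ≤ A ∧ X ≠ ⊥ ∧ Nat.card M ≤ fo M X} (fun X => Nat.card X) (Set.toFinite _) ⟨A, le_rfl, hne, hex⟩
  have hXb : ∀ a ∈ X, IsBB U a := fun a ha => hA a (hXA ha)
  obtain ⟨v, hv, hv'⟩ := F.exists_line T hO hXb hX1 (le_antisymm (F.no X hXb) hX2) (by
    intro Y hY hY1 hY2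
    by_contra hcon
    rw [not_lt] at hcon
    have h1 := hmin Y ⟨hY.trans hXA, hY1, hcon⟩
    exact hY2 (eq_of_le_of_card_ge hY h1))
  exact ⟨v, (br_le fun a ha m => mem_br (hXA ha) m : (br X : Subgroup M) ≤ br A) hv, hv'⟩

end Fr

end Cfsg.Agent.Omega.NO3S.OneS
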