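import Cfsg.Agent.Omega.NO3S.OneS.InnS

/-!
# THEOREM INN_s (OMEGA, NO-3S MidQ, `s ≥ 4`; helper49): line vectors of `[M, A]`; K-free, no torus, no field

`Inn.flag_eq` : `A ≠ 1` exact and inner, `1 ≠ w ∈ [M, A] ∩ g • lam` ⟹ `g • U = U`.  (No (T), no `J`.)
`Fr.smul`, `TorAct.smul`, `CenAct.smul`, `Inn.smul` : the frame at the flag `(g • lam, g • U)`.
-/

set_option autoImplicit false
set_option maxHeartbeats 400000

namespace Cfsg.Agent.Omega.NO3S.OneS

open Subgroup Cfsg.Agent.ClassTwoFusion.Quad Cfsg.Agent.Omega.NOThree.NoOver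
open scoped Pointwise

variable {H : Type*} [Group H] {M : Type*} [Group M] [MulDistribMulAction H M]

theorem isBB_conj' {U : Subgroup M} {b g : H} (h : IsBB (g • U) b) : IsBB U (g⁻¹ * b * g) := by
  have h1 := isBB_conj g⁻¹ h
  rwa [inv_smul_smul, inv_inv] at h1

theorem Fr.smul {lam U : Subgroup M} (F : Fr H lam U) (g : H) : Fr H (g • lam) (g • U) where
  sq := F.sq
  faith := F.faith
  le := smul_mono_right g F.le
  stab k hk := by
    have h1 : (k * g) • lam = g • lam := by rw [mul_smul, hk]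
    have h2 := F.stab' h1
    rwa [mul_smul] at h2
  ti k hk := by
    have h1 : (k * g) • lam ⊓ g • lam ≠ ⊥ := by rwa [mul_smul]
    have h2 := F.ti' h1
    rwa [mul_smul] at h2
  coll k hk hk' v hv hv1 := by
    obtain ⟨x, ⟨hx, hx'⟩, hx1⟩ := ne_bot_iff'.1 hk'
    have h1 : (k * g) • lam ≠ g • lam := by rwa [mul_smul]
    rw [← mul_smul] at hx hv
    obtain ⟨-, l, hl⟩ := F.coll' h1 hx hx' hx1 hv hv1
    refine ⟨hv1, l * g⁻¹, ?_⟩
    rwa [mul_smul, inv_smul_smul]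
  two b hb k hk v hv := by
    have h1 : (g⁻¹ * b * g) • (g⁻¹ * k * g) • lam = (g⁻¹ * k * g) • lam := by
      rw [← mul_smul]
      have h2 : g⁻¹ * b * g * (g⁻¹ * k * g) = g⁻¹ * (b * (k * g)) := by group
      rw [h2, mul_smul, mul_smul, mul_smul, hk, ← mul_smul, ← mul_smul, mul_assoc]
    have h3 := F.two _ (isBB_conj' hb) _ h1 (g⁻¹ • v) (by
      have h4 : g⁻¹ * k * g = g⁻¹ * (k * g) := by group
      rw [h4, mul_smul, mul_smul]
      exact smul_mem_pointwise_smul _ _ _ hv)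
    rw [mul_smul, mul_smul, smul_inv_smul] at h3
    exact smul_left_cancel _ h3
  no X hX := by
    have h1 : fo M (cj g⁻¹ X) = fo M X := Star.map_fo g⁻¹ X
    rw [← h1]
    refine F.no _ fun x hx => ?_
    rw [mem_cj, inv_inv] at hx
    have h2 := isBB_conj' (hX _ hx)
    have h3 : g⁻¹ * (g * x * g⁻¹) * g = x := by group
    rwa [h3] at h2
  four := by rw [card_smul_eq]; exact F.four

theorem TorAct.smul {lam U : Subgroup M} (T : TorAct H lam U) (g : H) : TorAct H (g • lam) (g • U) where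
  tor z hz hz1 z' hz' hz'1 := by
    rw [mem_pointwise_smul_iff_inv_smul_mem] at hz hz'
    have h1 : ∀ {m : M}, m ≠ 1 → g⁻¹ • m ≠ 1 := fun hm hc => hm (by rwa [inv_smul_eq_iff, smul_one] at hc)
    obtain ⟨t, h2, h3, h4⟩ := T.tor _ hz (h1 hz1) _ hz' (h1 hz'1)
    refine ⟨g * t * g⁻¹, ?_, fun u hu => ?_, ?_⟩
    · rw [mul_smul, mul_smul, inv_smul_smul, h2]
    · rw [mem_pointwise_smul_iff_inv_smul_mem] at hu
      have h5 : (g * t * g⁻¹) • u * u = g • (t • g⁻¹ • u * g⁻¹ • u) := by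
        rw [smul_mul', smul_inv_smul, mul_smul, mul_smul]
      rw [h5]
      exact smul_mem_pointwise_smul _ _ _ (h3 _ hu)
    · rw [mul_smul, mul_smul, h4, smul_inv_smul]
  act u hu hu' := by
    rw [mem_pointwise_smul_iff_inv_smul_mem] at hu hu'
    obtain ⟨k, h1, h2, h3⟩ := T.act _ hu hu'
    refine ⟨g * k * g⁻¹, fun z hz => ?_, fun w hw => ?_, fun hc => h3 ?_⟩
    · rw [mem_pointwise_smul_iff_inv_smul_mem] at hz
      rw [mul_smul, mul_smul, h1 _ hz, smul_inv_smul]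
    · rw [mem_pointwise_smul_iff_inv_smul_mem] at hw
      have h5 : (g * k * g⁻¹) • w * w = g • (k • g⁻¹ • w * g⁻¹ • w) := by
        rw [smul_mul', smul_inv_smul, mul_smul, mul_smul]
      rw [h5]
      exact smul_mem_pointwise_smul _ _ _ (h2 _ hw)
    · rw [mul_smul, mul_smul] at hc
      rw [eq_inv_smul_iff, hc]

theorem CenAct.smul {lam U : Subgroup M} (T : CenAct H lam U) (g : H) : CenAct H (g • lam) (g • U) where
  cen z hz hz1 z' hz' := by
    rw [mem_pointwise_smul_iff_inv_smul_mem] at hz hz'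
    have h1 : g⁻¹ • z ≠ 1 := fun hc => hz1 (by rwa [inv_smul_eq_iff, smul_one] at hc)
    obtain ⟨θ, h2, h3, h4⟩ := T.cen _ hz h1 _ hz'
    refine ⟨θ, h2, fun u hu => ?_, ?_⟩
    · rw [mem_pointwise_smul_iff_inv_smul_mem] at hu ⊢
      rw [← h2]
      exact h3 _ hu
    · rw [h2] at h4
      exact smul_left_cancel _ h4
  act u hu hu' z hz := by
    rw [mem_pointwise_smul_iff_inv_smul_mem] at hu hu' hz
    obtain ⟨k, h1, h2, h3⟩ := T.act _ hu hu' _ hz
    refine ⟨g * k * g⁻¹, fun z hz => ?_, fun w hw => ?_, ?_⟩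
    · rw [mem_pointwise_smul_iff_inv_smul_mem] at hz
      rw [mul_smul, mul_smul, h1 _ hz, smul_inv_smul]
    · rw [mem_pointwise_smul_iff_inv_smul_mem] at hw
      have h5 : (g * k * g⁻¹) • w * w = g • (k • g⁻¹ • w * g⁻¹ • w) := by
        rw [smul_mul', smul_inv_smul, mul_smul, mul_smul]
      rw [h5]
      exact smul_mem_pointwise_smul _ _ _ (h2 _ hw)
    · rw [mul_smul, mul_smul, h3, smul_mul', smul_inv_smul, smul_inv_smul]

namespace Inn

variable {lam U : Subgroup M} {A : Subgroup H} (I : Inn H lam U A)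
include I

/-- the frame at another flag -/
theorem smul (g : H) {A' : Subgroup H} (hA' : ∀ a ∈ A', IsBB (g • U) a)
    (cen' : ∀ v ∈ br A' ⊔ g • lam, v ≠ 1 → ∀ k : H, v ∈ k • lam → ∀ a ∈ A', ∀ u ∈ k • U, a • u = u) :
    Inn H (g • lam) (g • U) A' where
  F := I.F.smul g
  sym k hk hk' := by
    obtain ⟨x, ⟨hx, hx'⟩, hx1⟩ := ne_bot_iff'.1 hk'
    have h1 : (k * g) • lam ≠ g • lam := by rwa [mul_smul]
    rw [← mul_smul] at hx
    have h2 := I.sym' h1 hx hx' hx1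
    rwa [mul_smul] at h2
  bs := I.bs
  hA := hA'
  cen v hv hv1 k hk a ha u hu := by
    rw [← mul_smul] at hk hu
    exact cen' v hv hv1 _ hk a ha u hu

/-- **a line vector of `[M, A]` is fat** -/
theorem flag_eq [Finite H] [Finite M] (hA : A ≠ ⊥) (hex : fo M A = Nat.card M) {g : H} {w : M}
    (hw : w ∈ br A) (hw1 : w ≠ 1) (hwg : w ∈ g • lam) : g • U = U := by
  obtain ⟨A₁, h1, f, h, Q⟩ := I.exists_at le_rfl hA hex
  obtain ⟨z, hz, hz1⟩ := Q.S.exists_mu
  have hwU : w ∈ U := (br_le fun a ha m => (I.hA a ha).2 m : (br A : Subgroup M) ≤ U) hw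
  obtain ⟨s, hs, d₁, hd₁, e⟩ := Q.S.r1 hz hz1 hwU
  have hs1 : s ≠ 1 := by
    rintro rfl
    rw [one_smul, I.F.sq, one_mul] at e
    exact Q.wdX le_rfl w (e ▸ hd₁) hw ⟨hw1, g, hwg⟩
  obtain ⟨b, hb, d, hd, e1, e2, e3, e4⟩ := Q.fat hs hs1 hz hz1
  set κ := (s • z * z) * d with hκ
  have hκL : κ ∈ ((b * s) * h) • lam := by
    rw [← e1, mul_smul (b * s) h]
    exact smul_mem_pointwise_smul _ _ _ hz
  have hkU : ((b * s) * h) • U = U := by rw [mul_smul, e2]
  by_cases hgk : g • lam = ((b * s) * h) • lam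
  · rw [I.F.stab' hgk, hkU]
  exfalso
  have hwκ : w * κ = d₁ * d := by
    rw [hκ, e, mul_assoc (s • z * z) d₁, ml I.F.sq d₁ (s • z * z) d, aa I.F.sq]
  have hD : w * κ ∈ U ⊓ h • U := by
    rw [hwκ]
    exact mul_mem hd₁ hd
  have hb' : w * κ ∈ br A ⊔ lam := mul_mem (mem_sup_left hw) (sup_le_sup_right (br_mono h1) lam e3)
  by_cases h5 : w * κ = 1
  · apply hgk
    apply I.F.ti'
    refine ne_bot_iff'.2 ⟨w, ⟨hwg, ?_⟩, hw1⟩
    rw [eqm I.F.sq h5]
    exact hκL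
  · have hwU' : w ∈ ((b * s) * h) • U := by
      rw [hkU]
      exact hwU
    exact Q.wd' _ hD hb' (I.F.coll' hgk hwg hwU' hw1 (mul_mem (mem_sup_left hwg) (mem_sup_right hκL)) h5)

end Inn

end Cfsg.Agent.Omega.NO3S.OneS
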