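import Cfsg.Agent.Omega.NO3S.OneS.Dich

/-!
# THEOREM ONE_s (OMEGA, NO-3S, `s ≥ 4`; #18570 of helper49); K-free

`Sit.lam_le` : under (WD), `lam ≤ [M, A]`.  `Fr.lam_le_of`, `Fr.exists_line_of` : `[M, A]` contains a line vector.
-/

set_option autoImplicit false
set_option maxHeartbeats 400000

namespace Cfsg.Agent.Omega.NO3S.OneS

open Subgroup Cfsg.Agent.ClassTwoFusion.Quad Cfsg.Agent.Omega.NOThree.NoOver
open scoped Pointwise

variable {H : Type*} [Group H] {M : Type*} [Group M] [MulDistribMulAction H M]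

theorem phi_mul (sq : ∀ m : M, m * m = 1) (k : H) (a b : M) :
    k • (a * b) * (a * b) = (k • a * a) * (k • b * b) := by
  rw [smul_mul']
  simp only [mul_assoc]
  rw [ml sq a]

namespace Fr

variable {lam U : Subgroup M} (F : Fr H lam U)
include F

theorem semi_one : Semi lam U (1 : H) :=
  ⟨one_smul _ _, fun u _ => by rw [one_smul, F.sq]; exact one_mem _⟩

theorem semi_inv {t : H} (ht : Semi lam U t) {u : M} (hu : u ∈ U) : t⁻¹ • u ∈ U ∧ t⁻¹ • u * u ∈ lam := by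
  have h1 : t⁻¹ • u ∈ U := by
    have := smul_mem_pointwise_smul u t⁻¹ _ hu
    rwa [inv_smul_eq_iff.2 (F.semi_U ht).symm] at this
  refine ⟨h1, ?_⟩
  have h2 := ht.cl _ h1
  rw [smul_inv_smul, F.mc] at h2
  exact h2

/-- conjugates of the `k` with `[lam, k] = 1`, `[U, k] ≤ lam` -/
theorem conj_fix {k t : H} (hk : ∀ z ∈ lam, k • z = z) (ht : Semi lam U t) : ∀ z ∈ lam, (t * k * t⁻¹) • z = z := by
  intro z hz
  have h1 : t⁻¹ • z ∈ lam := by
    have := smul_mem_pointwise_smul z t⁻¹ _ hz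
    rwa [inv_smul_eq_iff.2 ht.st.symm] at this
  rw [mul_smul, mul_smul, hk _ h1, smul_inv_smul]

theorem conj_phi {k t : H} (hk : ∀ z ∈ lam, k • z = z) (ht : Semi lam U t) {u : M} (hu : u ∈ U) :
    (t * k * t⁻¹) • u * u = t • (k • u * u) := by
  obtain ⟨-, h2⟩ := F.semi_inv ht hu
  have h3 : t⁻¹ • u = (t⁻¹ • u * u) * u := by rw [mul_assoc, F.sq, mul_one]
  have h4 : k • t⁻¹ • u = (t⁻¹ • u) * (k • u * u) := by
    rw [h3, smul_mul', hk _ h2]
    simp only [mul_assoc]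
    rw [F.mc u (k • u * u), mul_assoc, F.sq, mul_one]
  rw [mul_smul, mul_smul, h4, smul_mul', smul_inv_smul, F.mc u, mul_assoc, F.sq, mul_one]

theorem conj_semi {k t : H} (hk : ∀ z ∈ lam, k • z = z) (hk' : ∀ u ∈ U, k • u * u ∈ lam) (ht : Semi lam U t) :
    Semi lam U (t * k * t⁻¹) := by
  refine ⟨smul_eq_of_fix (F.conj_fix hk ht), fun u hu => ?_⟩
  rw [F.conj_phi hk ht hu]
  have := smul_mem_pointwise_smul _ t _ (hk' u hu)
  rwa [ht.st] at this

theorem exists_two : ∃ z₁ ∈ lam, ∃ z₂ ∈ lam, z₁ ≠ 1 ∧ z₂ ≠ 1 ∧ z₁ * z₂ ≠ 1 := by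
  obtain ⟨z₁, hz₁, h1⟩ := F.exists_ne
  by_contra hcon
  push Not at hcon
  have h2 : (lam : Set M) ⊆ {1, z₁} := by
    intro z hz
    by_cases hz1 : z = 1
    · exact Or.inl hz1
    · exact Or.inr (eqm F.sq (hcon z₁ hz₁ z hz h1 hz1)).symm
  have h3 := Set.ncard_le_ncard h2 (Set.toFinite _)
  rw [Set.ncard_pair (Ne.symm h1)] at h3
  have h4 := F.four
  change 4 ≤ Set.ncard (lam : Set M) at h4
  omega

end Fr

namespace Sit

variable {lam U : Subgroup M} {A : Subgroup H} {f h : H} (S : Sit lam U A f h)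
include S

theorem f1_br_mem {y : H} (hy : y ∈ cj (h * f) A) (m : M) : (h * f) • (y • m * m) ∈ br A := by
  rw [S.f1_im]
  exact mem_br (S.f1_cj' hy) _

variable [Finite H] [Finite M]

theorem cases {g : H} (hg : Semi lam U g) : g • (br A : Subgroup M) = br A ∨
    ∀ r ∈ g • (br A : Subgroup M), ∀ y ∈ cj (h * f) A, y • r * r ∈ (h * f) • g • (br A : Subgroup M) := by
  rcases S.dich hg with h0 | h1
  · exact Or.inl (S.same hg h0)
  · exact Or.inr fun r hr y hy => S.three hg h1 hr hy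

theorem all_of {X : Subgroup M} {y : H} (hy : y ∈ cj (h * f) A) (hX : ∀ u ∈ U, y • u * u ∈ X) (m : M) :
    y • m * m ∈ X := by
  obtain ⟨u, hu, c, hc, rfl⟩ := S.r4 m
  rw [phi_mul S.F.sq, (hc y hy : y • c = c), S.F.sq, mul_one]
  exact hX u hu

section five

variable (hRl : ∀ r ∈ br A, r ∈ lam → r = 1) {k : H} (hk : ∀ z ∈ lam, k • z = z) (hk' : ∀ u ∈ U, k • u * u ∈ lam)
  {r : M} (hr : r ∈ br A) (hkr : k • r ≠ r)
include hRl hk hk' hr hkr

omit [Finite H] [Finite M] in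
theorem br_U {x : M} (hx : x ∈ br A) : x ∈ U := S.br_le_U hx

theorem main {t : H} (ht : Semi lam U t) {r' : M} (hr' : r' ∈ br A) {y : H} (hy : y ∈ cj (h * f) A) :
    k • ((h * f) • (y • r' * r')) * ((h * f) • (y • r' * r')) =
      k • ((h * f) • (y • (t • (k • r' * r')) * (t • (k • r' * r')))) *
        ((h * f) • (y • (t • (k • r' * r')) * (t • (k • r' * r')))) := by
  set g := t * k * t⁻¹ with hgdef
  have hg : Semi lam U g := S.F.conj_semi hk hk' ht
  have hphi : ∀ u ∈ U, g • u * u = t • (k • u * u) := fun u hu => S.F.conj_phi hk ht hu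
  have hfix : ∀ u ∈ U, g • u = u → k • u = u := by
    intro u hu hgu
    have h1 := hphi u hu
    rw [hgu, S.F.sq] at h1
    apply eqm S.F.sq
    rw [eq_comm, smul_eq_iff_eq_inv_smul, smul_one] at h1
    exact h1
  rcases S.cases hg with h1 | h1
  · exfalso
    apply hkr
    apply hfix r (S.br_le_U hr)
    apply eqm S.F.sq
    apply hRl
    · refine mul_mem ?_ hr
      have h2 := smul_mem_pointwise_smul r g _ hr
      rwa [h1] at h2
    · exact hg.cl r (S.br_le_U hr)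
  · have h2 := h1 _ (smul_mem_pointwise_smul r' g _ hr') y hy
    have h3 : g • r' = r' * (t • (k • r' * r')) := by
      rw [← hphi r' (S.br_le_U hr'), S.F.mc r', mul_assoc, S.F.sq, mul_one]
    rw [h3, phi_mul S.F.sq] at h2
    set w := (y • r' * r') * (y • (t • (k • r' * r')) * (t • (k • r' * r'))) with hw
    have h4 : (h * f) • w ∈ g • (br A : Subgroup M) := by
      have := smul_mem_pointwise_smul w (h * f) _ h2
      rwa [← mul_smul (h * f) (h * f), S.f1_sq, one_smul] at this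
    have h5 : (h * f) • w ∈ br A := by
      rw [hw, smul_mul']
      exact mul_mem (S.f1_br_mem hy _) (S.f1_br_mem hy _)
    obtain ⟨x, hx, hxw⟩ := h4
    change g • x = (h * f) • w at hxw
    have h6 : g • x * x = 1 := by
      apply hRl
      · refine mul_mem ?_ hx
        rw [hxw]
        exact h5
      · exact hg.cl x (S.br_le_U hx)
    have h7 : g • x = x := eqm S.F.sq h6
    have h8 : k • ((h * f) • w) = (h * f) • w := by
      have := hfix x (S.br_le_U hx) h7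
      rwa [← hxw, h7]
    rw [hw, smul_mul'] at h8
    have h9 := phi_mul S.F.sq k ((h * f) • (y • r' * r'))
      ((h * f) • (y • (t • (k • r' * r')) * (t • (k • r' * r'))))
    rw [h8, S.F.sq] at h9
    exact eqm S.F.sq h9.symm

theorem psi (T : TorAct H lam U) {y : H} (hy : y ∈ cj (h * f) A) {z : M} (hz : z ∈ lam) :
    k • ((h * f) • (y • z * z)) * ((h * f) • (y • z * z)) = 1 := by
  have hconst : ∀ z ∈ lam, z ≠ 1 → k • ((h * f) • (y • z * z)) * ((h * f) • (y • z * z)) =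
      k • ((h * f) • (y • r * r)) * ((h * f) • (y • r * r)) := by
    intro z hz hz1
    obtain ⟨t, ht1, ht2, ht3⟩ := T.tor _ (hk' r (S.br_le_U hr)) (fun hc => hkr (eqm S.F.sq hc)) z hz hz1
    have h1 := S.main hRl hk hk' hr hkr ⟨ht1, ht2⟩ hr hy
    rw [ht3] at h1
    exact h1.symm
  by_cases hz1 : z = 1
  · rw [hz1, smul_one, one_mul, smul_one, smul_one, one_mul]
  obtain ⟨z₁, hz₁, z₂, hz₂, h1, h2, h3⟩ := S.F.exists_two
  have h4 := hconst _ (mul_mem hz₁ hz₂) h3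
  rw [phi_mul S.F.sq, smul_mul', phi_mul S.F.sq, hconst z₁ hz₁ h1, hconst z₂ hz₂ h2, S.F.sq] at h4
  rw [hconst z hz hz1, ← h4]

theorem all_fix (T : TorAct H lam U) {y : H} (hy : y ∈ cj (h * f) A) (m : M) :
    k • ((h * f) • (y • m * m)) = (h * f) • (y • m * m) := by
  have h1 : ∀ r' ∈ (br A : Subgroup M), k • ((h * f) • (y • r' * r')) * ((h * f) • (y • r' * r')) = 1 := by
    intro r' hr'
    rw [S.main hRl hk hk' hr hkr S.F.semi_one hr' hy]
    apply S.psi hRl hk hk' hr hkr T hy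
    rw [one_smul]
    exact hk' r' (S.br_le_U hr')
  obtain ⟨z, hz, hz1⟩ := S.exists_mu
  obtain ⟨u, hu, c, hc, rfl⟩ := S.r4 m
  obtain ⟨a, ha, d, hd, rfl⟩ := S.r1 hz hz1 hu
  rw [phi_mul S.F.sq, phi_mul S.F.sq, (hc y hy : y • c = c), S.F.sq, mul_one, (S.B_bb hy).1 d hd.2, S.F.sq, mul_one]
  exact eqm S.F.sq (h1 _ (mem_br ha z))

end five

/-- (4) of #18570 -/
theorem inf_ne (T : TorAct H lam U) : ∃ r ∈ br A, r ∈ lam ∧ r ≠ 1 := by
  by_contra hcon
  have hRl : ∀ r ∈ br A, r ∈ lam → r = 1 := by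
    intro r hr hr'
    by_contra h1
    exact hcon ⟨r, hr, hr', h1⟩
  have hall : ∀ r ∈ (br A : Subgroup M), r = 1 := by
    intro r hr
    by_contra hr1
    obtain ⟨k, hk, hk', hkr⟩ := T.act r (S.br_le_U hr) fun hc => hr1 (hRl r hr hc)
    apply hkr
    have h1 : br A ≤ cv M ({k} : Set H) := by
      refine br_le fun a ha m => ?_
      rw [mem_cv_singleton]
      have h2 := S.all_fix hRl hk hk' hr hkr T (S.f1_cj ha) ((h * f) • m)
      rw [← S.f1_im, S.f1_f1] at h2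
      exact h2
    exact mem_cv_singleton.1 (h1 hr)
  have h1 : f = 1 := by
    apply S.F.faith
    intro m
    exact eqm S.F.sq (hall _ (mem_br S.hf m))
  apply S.hmov
  rw [h1, one_smul]

/-- the end of (4), (5): `U ≤ [M, A]^t D` and `[[M, A]^t, B] ≤ ([M, A]^t)^f₁` give `[M, A]^t = [M, A]` -/
theorem end_of {t : H}
    (h1 : ∀ r ∈ t • (br A : Subgroup M), ∀ y ∈ cj (h * f) A, y • r * r ∈ (h * f) • t • (br A : Subgroup M))
    (h2 : ∀ u ∈ U, ∃ x ∈ t • (br A : Subgroup M), ∃ d ∈ U ⊓ h • U, u = x * d) :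
    (br A : Subgroup M) = t • (br A : Subgroup M) := by
  have h3 : ∀ y ∈ cj (h * f) A, ∀ m : M, y • m * m ∈ (h * f) • t • (br A : Subgroup M) := by
    intro y hy
    refine S.all_of hy fun u hu => ?_
    obtain ⟨x, hx, d, hd, rfl⟩ := h2 u hu
    rw [phi_mul S.F.sq, (S.B_bb hy).1 d hd.2, S.F.sq, mul_one]
    exact h1 x hx y hy
  have h4 : (br A : Subgroup M) ≤ t • (br A : Subgroup M) := by
    refine br_le fun a ha m => ?_
    have h5 := h3 _ (S.f1_cj ha) ((h * f) • m)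
    rw [← S.f1_im] at h5
    have h6 := smul_mem_pointwise_smul _ (h * f) _ h5
    rwa [S.f1_f1, ← mul_smul (h * f) (h * f), S.f1_sq, one_smul] at h6
  exact eq_of_le_of_card_ge h4 (card_smul_eq _ _).le

/-- **THEOREM ONE_s**, torus version -/
theorem lam_le (T : TorAct H lam U) : lam ≤ br A := by
  obtain ⟨z, hz, hzl, hz1⟩ := S.inf_ne T
  intro z' hz'
  by_cases hz'1 : z' = 1
  · rw [hz'1]
    exact one_mem _
  obtain ⟨t, ht1, ht2, ht3⟩ := T.tor z hzl hz1 z' hz' hz'1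
  have ht : Semi lam U t := ⟨ht1, ht2⟩
  have hz't : z' ∈ t • (br A : Subgroup M) := by
    rw [← ht3]
    exact smul_mem_pointwise_smul _ _ _ hz
  rcases S.cases ht with h1 | h1
  · rw [← h1]
    exact hz't
  -- `U ≤ [M, A]^t D`
  have h2 : ∀ u ∈ U, ∃ x ∈ t • (br A : Subgroup M), ∃ d ∈ U ⊓ h • U, u = x * d := by
    intro u hu
    obtain ⟨b, hb, d, hd, e⟩ := S.r2 hz' hz'1 (S.f1_mem_V hu)
    refine ⟨(h * f) • (b • z' * z'), ?_, d, hd, ?_⟩
    · have := smul_mem_pointwise_smul _ (h * f) _ (h1 z' hz't b hb)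
      rwa [← mul_smul (h * f) (h * f), S.f1_sq, one_smul] at this
    · rw [← S.f1_f1 u, e, smul_mul', S.f1_D hd]
  rw [S.end_of h1 h2]
  exact hz't

section cen

variable (T : CenAct H lam U)
include T

omit [Finite H] [Finite M] in
theorem map_br {θ : M →* M} (hθ : ∀ (h : H) (m : M), θ (h • m) = h • θ m) {r : M} (hr : r ∈ br A) : θ r ∈ br A := by
  have h1 : (br A : Subgroup M) ≤ (br A).comap θ := by
    refine br_le fun a ha m => ?_
    rw [mem_comap, map_mul, hθ]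
    exact mem_br ha _
  exact h1 hr

/-- (4), version with a field acting -/
theorem inf_ne' : ∃ r ∈ br A, r ∈ lam ∧ r ≠ 1 := by
  by_contra hcon
  have hRl : ∀ r ∈ br A, r ∈ lam → r = 1 := by
    intro r hr hr'
    by_contra h1
    exact hcon ⟨r, hr, hr', h1⟩
  obtain ⟨z, hz, hz1⟩ := S.exists_mu
  obtain ⟨l, hl, l', hl', hl1, hl'1, hll⟩ := S.F.exists_two
  obtain ⟨a, ha, d, hd, e⟩ := S.r1 hz hz1 (S.F.le hl)
  set r := a • z * z with hr
  have hrb : r ∈ br A := mem_br ha z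
  have hrl : r ∉ lam := by
    intro hc
    have h1 := hRl r hrb hc
    rw [h1, one_mul] at e
    exact hl1 (S.lam_D hl (e ▸ hd))
  obtain ⟨k, hk, hk', hkr⟩ := T.act r (S.br_le_U hrb) hrl l' hl'
  have hg : Semi lam U k := ⟨smul_eq_of_fix hk, hk'⟩
  rcases S.cases hg with h1 | h1
  · apply hl'1
    refine hRl l' ?_ hl'
    have h2 : l' = r * (k • r) := by rw [hkr, aa S.F.sq]
    rw [h2]
    refine mul_mem hrb ?_
    rw [← h1]
    exact smul_mem_pointwise_smul _ _ _ hrb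
  -- `X = [M, A]^k D` is invariant under `θ`, contains `lam`, `[M, A]`, `U`
  set X : Subgroup M := k • (br A : Subgroup M) ⊔ (U ⊓ h • U) with hX
  have h2 : l' * l ∈ X := by
    have h3 : l' * l = (k • r) * d := by
      rw [hkr, e, ← mul_assoc l' r d, S.F.mc l' r]
    rw [h3]
    exact mul_mem (mem_sup_left (smul_mem_pointwise_smul _ _ _ hrb)) (mem_sup_right hd)
  have h3 : lam ≤ X := by
    intro z' hz'
    obtain ⟨θ, hθ, hθU, hθz⟩ := T.cen (l' * l) (mul_mem hl' hl) (by rw [S.F.mc]; exact hll) z' hz'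
    rw [← hθz]
    have h4 : X ≤ X.comap θ := by
      refine sup_le ?_ ?_
      · rintro _ ⟨x, hx, rfl⟩
        change θ (k • x) ∈ X
        rw [hθ]
        exact mem_sup_left (smul_mem_pointwise_smul _ _ _ (S.map_br T hθ hx))
      · rintro x ⟨hx, hx'⟩
        refine mem_sup_right ⟨hθU x hx, ?_⟩
        change θ x ∈ h • U
        rw [mem_pointwise_smul_iff_inv_smul_mem, ← hθ]
        exact hθU _ (mem_pointwise_smul_iff_inv_smul_mem.1 hx')
    exact h4 h2
  have h4 : (br A : Subgroup M) ≤ X := by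
    intro x hx
    have h5 : x = (k • x) * (k • x * x) := by rw [aa S.F.sq]
    rw [h5]
    exact mul_mem (mem_sup_left (smul_mem_pointwise_smul _ _ _ hx)) (h3 (hk' x (S.br_le_U hx)))
  have h5 : ∀ u ∈ U, ∃ x ∈ k • (br A : Subgroup M), ∃ d ∈ U ⊓ h • U, u = x * d := by
    intro u hu
    rw [← mem_sup' S.F.sq]
    obtain ⟨a', ha', d', hd', rfl⟩ := S.r1 hz hz1 hu
    exact mul_mem (h4 (mem_br ha' z)) (mem_sup_right hd')
  have h6 := S.end_of h1 h5
  apply hl'1
  refine hRl l' ?_ hl'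
  have h2 : l' = r * (k • r) := by rw [hkr, aa S.F.sq]
  rw [h2]
  refine mul_mem hrb ?_
  rw [h6]
  exact smul_mem_pointwise_smul _ _ _ hrb

/-- **THEOREM ONE_s**, version with a field acting -/
theorem lam_le' : lam ≤ br A := by
  obtain ⟨z, hz, hzl, hz1⟩ := S.inf_ne' T
  intro z' hz'
  obtain ⟨θ, hθ, -, hθz⟩ := T.cen z hzl hz1 z' hz'
  rw [← hθz]
  exact S.map_br T hθ hz

end cen

end Sit

namespace Fr

variable {lam U : Subgroup M} (F : Fr H lam U)
include F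

omit F in
theorem line_of_lam {z : M} (hz : z ∈ lam) (hz1 : z ≠ 1) : z ∈ Lam H lam :=
  ⟨hz1, 1, by rw [one_smul]; exact hz⟩

/-- `r` and `r z` are conjugate for `r ∈ U - lam`, `z ∈ lam` -/
theorem exists_conj (T : TorAct H lam U) {r z : M} (hr : r ∈ U) (hr' : r ∉ lam) (hz : z ∈ lam) :
    ∃ k : H, k • r = r * z := by
  by_cases hz1 : z = 1
  · exact ⟨1, by rw [hz1, one_smul, mul_one]⟩
  obtain ⟨k, hk, hk', hkr⟩ := T.act r hr hr'
  obtain ⟨t, ht1, ht2, ht3⟩ := T.tor _ (hk' r hr) (fun hc => hkr (eqm F.sq hc)) z hz hz1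
  refine ⟨t * k * t⁻¹, ?_⟩
  have h1 := F.conj_phi hk ⟨ht1, ht2⟩ hr
  rw [ht3] at h1
  rw [← h1, F.mc r, mul_assoc ((t * k * t⁻¹) • r), F.sq, mul_one]

theorem h_mem_aux {f h : H} (hodd : Odd (orderOf h)) (hinv : f * h * f = h⁻¹) (K : Subgroup H) (h1 : f ∈ K)
    (h2 : h * f * h⁻¹ ∈ K) : h ∈ K := by
  have h3 : h ^ 2 ∈ K := by
    have h4 := K.mul_mem h1 h2
    have h5 : f * (h * f * h⁻¹) = (f * h * f) * h⁻¹ := by group
    rw [h5, hinv] at h4
    have h6 := K.inv_mem h4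
    have h7 : (h⁻¹ * h⁻¹)⁻¹ = h ^ 2 := by group
    rwa [h7] at h6
  obtain ⟨k, hk⟩ := hodd
  have h4 : (h ^ 2) ^ (k + 1) = h := by
    rw [← pow_mul]
    have : 2 * (k + 1) = orderOf h + 1 := by omega
    rw [this, pow_succ, pow_orderOf_eq_one, one_mul]
  rw [← h4]
  exact K.pow_mem h3 _

/-- (WD) if `[M, A]` contains no line vector and `r`, `r z` are conjugate -/
theorem sit_of {A : Subgroup H} (hA : ∀ a ∈ A, IsBB U a)
    (hex : fo M A = Nat.card M) (hmin : ∀ X ≤ A, X ≠ ⊥ → X ≠ A → fo M X < Nat.card M) {f h : H} (hf : f ∈ A)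
    (hodd : Odd (orderOf h)) (hinv : f * h * f = h⁻¹) (hmov : f • h • lam ≠ h • lam)
    (hconj : ∀ r ∈ U, r ∉ lam → ∀ z ∈ lam, ∃ k : H, k • r = r * z) (hno : ∀ v ∈ br A, v ∉ Lam H lam) :
    Sit lam U A f h := by
  have hbU : (br A : Subgroup M) ≤ U := br_le fun a ha m => (hA a ha).2 m
  refine ⟨F, hA, hex, hmin, hf, hodd, hinv, hmov, ?_⟩
  intro v hv hvs hvL
  obtain ⟨r, hr, z, hz, rfl⟩ := (mem_sup' F.sq).1 hvs
  by_cases hrl : r ∈ lam
  · -- `v ∈ lam ∩ D = 1`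
    have hvl : r * z ∈ lam := mul_mem hrl hz
    have hgb : IsBB (h • U) (h * f * h⁻¹) := isBB_conj h (hA f hf)
    have h1 : h • (r * z) = r * z := by
      have h2 := h_mem_aux F hodd hinv (MulAction.stabilizer H (r * z))
        (MulAction.mem_stabilizer_iff.2 ((hA f hf).1 _ hv.1)) (MulAction.mem_stabilizer_iff.2 (hgb.1 _ hv.2))
      exact MulAction.mem_stabilizer_iff.1 h2
    have h2 : h • lam ⊓ lam ≠ ⊥ := by
      refine ne_bot_iff'.2 ⟨r * z, ⟨?_, hvl⟩, hvL.1⟩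
      rw [← h1]
      exact smul_mem_pointwise_smul _ _ _ hvl
    have h3 := F.ti _ h2
    apply hmov
    rw [h3, smul_eq_of_fix]
    exact fun x hx => (hA f hf).1 x (F.le hx)
  · obtain ⟨k, hk⟩ := hconj r (hbU hr) hrl z hz
    apply hno r hr
    obtain ⟨h1, g, hg⟩ := hvL
    refine ⟨fun hc => hrl (hc ▸ one_mem _), k⁻¹ * g, ?_⟩
    rw [mul_smul, mem_pointwise_smul_iff_inv_smul_mem, inv_inv, hk]
    exact hg

/-- `[M, A]` contains a line vector -/
theorem exists_line_of [Finite H] [Finite M] (T : TorAct H lam U ∨ CenAct H lam U) {A : Subgroup H}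
    (hA : ∀ a ∈ A, IsBB U a)
    (hex : fo M A = Nat.card M) (hmin : ∀ X ≤ A, X ≠ ⊥ → X ≠ A → fo M X < Nat.card M) {f h : H} (hf : f ∈ A)
    (hodd : Odd (orderOf h)) (hinv : f * h * f = h⁻¹) (hmov : f • h • lam ≠ h • lam) :
    ∃ v ∈ br A, v ∈ Lam H lam := by
  by_contra hcon
  have hno : ∀ v ∈ br A, v ∉ Lam H lam := fun v hv hv' => hcon ⟨v, hv, hv'⟩
  have S : Sit lam U A f h := by
    refine F.sit_of hA hex hmin hf hodd hinv hmov ?_ hno
    intro r hr hrl z hz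
    rcases T with T | T
    · exact F.exists_conj T hr hrl hz
    · obtain ⟨k, -, -, hk⟩ := T.act r hr hrl z hz
      exact ⟨k, hk⟩
  obtain ⟨z, hz, hz1⟩ := F.exists_ne
  rcases T with T | T
  · exact hno z (S.lam_le T hz) (line_of_lam hz hz1)
  · exact hno z (S.lam_le' T hz) (line_of_lam hz hz1)

end Fr

end Cfsg.Agent.Omega.NO3S.OneS
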