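import Cfsg.Agent.Omega.NO3S.OneS.Fat

/-!
# THEOREM INN_s (OMEGA, NO-3S MidQ, `s ≥ 4`; helper49, end by helper426): atoms; K-free

`Fatt lam U A` : (T), the fat line vectors of `[M, A]` are in `lam`; `FattS` : the same for `[M, A] lam`.
`At.dec`, `At.card_A` : `U = lam × D`, `|A₁| = |lam|`.  `At.split` : `X = A₁ × C_X(μ)` for `A₁ ≤ X ≤ A`, and `C_X(μ)` centralises `V`, is exact if `X` is.
`At.comm` : for `A₃` exact centralising `V`, `[b, y] ∈ A₃^f₁` for `b ∈ A₃`, `y ∈ B`.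
-/

set_option autoImplicit false
set_option maxHeartbeats 400000

namespace Cfsg.Agent.Omega.NO3S.OneS

open Subgroup Cfsg.Agent.ClassTwoFusion.Quad Cfsg.Agent.Omega.NOThree.NoOver
open scoped Pointwise

variable {H : Type*} [Group H] {M : Type*} [Group M] [MulDistribMulAction H M]

/-- (T) -/
def Fatt (lam U : Subgroup M) (A : Subgroup H) : Prop :=
  ∀ g : H, g • U = U → ∀ v ∈ br A, v ≠ 1 → v ∈ g • lam → g • lam = lam

/-- (T) for `[M, A] lam` -/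
def FattS (lam U : Subgroup M) (A : Subgroup H) : Prop :=
  ∀ g : H, g • U = U → ∀ v ∈ br A ⊔ lam, v ≠ 1 → v ∈ g • lam → g • lam = lam

/-- every exact subgroup `≠ 1` contains a minimal one -/
theorem exists_atom [Finite H] {X : Subgroup H} (hX : X ≠ ⊥) (hex : fo M X = Nat.card M)
    (no : ∀ Y ≤ X, fo M Y ≤ Nat.card M) :
    ∃ A₁ ≤ X, A₁ ≠ ⊥ ∧ fo M A₁ = Nat.card M ∧ ∀ Y ≤ A₁, Y ≠ ⊥ → Y ≠ A₁ → fo M Y < Nat.card M := by
  obtain ⟨A₁, ⟨h1, h2, h3⟩, hmin⟩ := Set.exists_min_image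
    {Y : Subgroup H | Y ≤ X ∧ Y ≠ ⊥ ∧ fo M Y = Nat.card M} (fun Y => Nat.card Y) (Set.toFinite _) ⟨X, le_rfl, hX, hex⟩
  refine ⟨A₁, h1, h2, h3, fun Y hY hY1 hY2 => ?_⟩
  refine lt_of_le_of_ne (no Y (hY.trans h1)) fun h4 => hY2 ?_
  exact eq_of_le_of_card_ge hY (hmin Y ⟨hY.trans h1, hY1, h4⟩)

/-- atoms of exact groups are `At` -/
theorem Inn.exists_at [Finite H] {lam U : Subgroup M} {A : Subgroup H} (I : Inn H lam U A) {X : Subgroup H}
    (hXA : X ≤ A) (hX : X ≠ ⊥) (hex : fo M X = Nat.card M) : ∃ A₁ ≤ X, ∃ f h, At lam U A A₁ f h := by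
  obtain ⟨A₁, h1, h2, h3, h4⟩ := exists_atom hX hex fun Y hY => I.F.no Y fun y hy => I.hA y (hXA (hY hy))
  obtain ⟨f, hf, hf1⟩ : ∃ f ∈ A₁, f ≠ 1 := by
    by_contra hcon
    push Not at hcon
    exact h2 ((Subgroup.eq_bot_iff_forall _).2 hcon)
  obtain ⟨h, hh1, hodd, hinv⟩ := I.bs f (I.F.bb_sq (I.hA f (hXA (h1 hf)))) hf1
  exact ⟨A₁, h1, f, h, I, h1.trans hXA, I.sit (h1.trans hXA) h3 h4 hf hh1 hodd hinv⟩

namespace At

variable {lam U : Subgroup M} {A A₁ : Subgroup H} {f h : H} (Q : At lam U A A₁ f h)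
include Q

theorem wd' (v : M) (hv : v ∈ U ⊓ h • U) (hvA : v ∈ br A ⊔ lam) : v ∉ Lam H lam := by
  rintro ⟨hv1, g, hg⟩
  have h2 := Q.I.cen v hvA hv1 g hg f (Q.le Q.S.hf)
  by_cases hgh : g • lam = h • lam
  · have h3 : (h * f) • v ∈ lam := Q.S.f1_mem_lam (hgh ▸ hg)
    rw [Q.S.f1_D hv] at h3
    exact hv1 (Q.S.lam_D h3 hv)
  · have h3 := Q.I.sym' hgh hg hv.2 hv1
    exact Q.S.hmov (smul_eq_of_fix fun x hx => h2 x (h3 hx))

theorem wdX {X : Subgroup H} (hX : X ≤ A) (v : M) (hv : v ∈ U ⊓ h • U) (hv' : v ∈ br X) : v ∉ Lam H lam :=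
  Q.wd' v hv (mem_sup_left (br_mono hX hv'))

variable [Finite H] [Finite M]

theorem mu_D {z : M} (hz : z ∈ h • lam) (hd : z ∈ U ⊓ h • U) : z = 1 := by
  have h1 := Q.S.lam_D (Q.S.f1_mem_lam hz) (by rw [Q.S.f1_D hd]; exact hd)
  by_contra h2
  exact Q.S.f1_ne h2 h1

theorem move (hT : FattS lam U A) {s : H} (hs : s ∈ A₁) (hs1 : s ≠ 1) :
    ∃ b ∈ cj (h * f) A₁, (b * s) • h • lam = lam := by
  obtain ⟨z, hz, hz1⟩ := Q.S.exists_mu
  obtain ⟨b, hb, d, hd, e1, e2, e3, e4⟩ := Q.fat hs hs1 hz hz1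
  refine ⟨b, hb, ?_⟩
  rw [← mul_smul]
  refine hT _ (by rw [mul_smul, e2]) _ (sup_le_sup_right (br_mono Q.le) lam e3) e4 ?_
  rw [← e1, mul_smul (b * s) h]
  exact smul_mem_pointwise_smul _ _ _ hz

/-- `[m, s] ∈ lam D` -/
theorem dec (hT : FattS lam U A) {s : H} (hs : s ∈ A₁) {z : M} (hz : z ∈ h • lam) :
    ∃ l ∈ lam, ∃ d ∈ U ⊓ h • U, s • z * z = l * d := by
  by_cases hs1 : s = 1
  · refine ⟨1, one_mem _, 1, one_mem _, ?_⟩
    rw [hs1, one_smul, Q.S.F.sq, one_mul]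
  obtain ⟨b, hb, e⟩ := Q.move hT hs hs1
  have h1 : (b * s) • z ∈ lam := by
    rw [← e]
    exact smul_mem_pointwise_smul _ _ _ hz
  set u := s • z * z with hu
  have huU : u ∈ U := (Q.S.hA s hs).2 z
  have hbb := Q.S.B_bb hb
  have h2 : (b * s) • z = u * ((b • u * u) * z) := by
    have h7 : s • z = u * z := by rw [hu, mul_assoc, Q.S.F.sq, mul_one]
    rw [mul_smul, h7, smul_mul', hbb.1 z (Q.S.mu_le hz), Q.S.F.mc (b • u) u]
    simp only [mul_assoc]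
    rw [aa Q.S.F.sq]
  refine ⟨(b * s) • z, h1, (b • u * u) * z, ⟨?_, mul_mem (hbb.2 u) (Q.S.mu_le hz)⟩, ?_⟩
  · have h3 : (b • u * u) * z = u * ((b * s) • z) := by rw [h2, aa Q.S.F.sq]
    rw [h3]
    exact mul_mem huU (Q.S.F.le h1)
  · rw [h2, mul_assoc, Q.S.F.sq, mul_one]

theorem U_dec (hT : FattS lam U A) : lam ⊔ (U ⊓ h • U) = U := by
  apply le_antisymm
  · exact sup_le Q.S.F.le inf_le_left
  · intro u hu
    obtain ⟨z, hz, hz1⟩ := Q.S.exists_mu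
    obtain ⟨a, ha, d, hd, rfl⟩ := Q.S.r1 hz hz1 hu
    obtain ⟨l, hl, d', hd', e⟩ := Q.dec hT ha hz
    rw [e, mul_assoc]
    exact mul_mem (mem_sup_left hl) (mem_sup_right (mul_mem hd' hd))

theorem lam_inf_D : lam ⊓ (U ⊓ h • U) = ⊥ := by
  rw [eq_bot_iff_forall]
  rintro x ⟨h1, h2⟩
  exact Q.S.lam_D h1 h2

theorem card_A (hT : FattS lam U A) : Nat.card A₁ = Nat.card lam := by
  obtain ⟨z, hz, hz1⟩ := Q.S.exists_mu
  set X := (im Q.S.F.sq Q.S.hA z).range with hX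
  have h1 := card_im Q.S.F.sq Q.S.hA z
  rw [(Q.S.key hz hz1).1, card_bot, mul_one, ← hX] at h1
  have h2 : X ⊓ (U ⊓ h • U) = ⊥ := by
    rw [eq_bot_iff_forall]
    rintro x ⟨hx, hx'⟩
    obtain ⟨b, hb, rfl⟩ := mem_im.1 hx
    rw [Q.S.i1 Q.S.hA Q.S.wdA hb hz hx', Q.S.F.sq]
  have h3 : X ⊔ (U ⊓ h • U) = U := by
    apply le_antisymm
    · refine sup_le ?_ inf_le_left
      intro x hx
      obtain ⟨b, hb, rfl⟩ := mem_im.1 hx
      exact (Q.S.hA b hb).2 z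
    · intro u hu
      obtain ⟨a, ha, d, hd, rfl⟩ := Q.S.r1 hz hz1 hu
      exact mul_mem (mem_sup_left (mem_im.2 ⟨a, ha, rfl⟩)) (mem_sup_right hd)
  have h4 := Q.S.card_supM X (U ⊓ h • U)
  rw [h2, h3, card_bot, mul_one, h1] at h4
  have h5 := Q.S.card_supM lam (U ⊓ h • U)
  rw [Q.lam_inf_D, Q.U_dec hT, card_bot, mul_one, h4] at h5
  exact Nat.eq_of_mul_eq_mul_right Nat.card_pos h5

/-- `X = A₁ C_X(μ)` -/
theorem split {X : Subgroup H} (hX : X ≤ A) {b : H} (hb : b ∈ X) (h1 : A₁ ≤ X) :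
    ∃ a ∈ A₁, a * b ∈ X ⊓ fixingSubgroup H ((h • lam : Subgroup M) : Set M) := by
  have hXb : ∀ b ∈ X, IsBB U b := fun b hb => Q.I.hA b (hX hb)
  obtain ⟨z, hz, hz1⟩ := Q.S.exists_mu
  obtain ⟨a, ha, d, hd, e⟩ := Q.S.r1 hz hz1 ((hXb b hb).2 z)
  have hab : a * b ∈ X := mul_mem (h1 ha) hb
  refine ⟨a, ha, hab, ?_⟩
  have h2 : (a * b) • z * z = d := by
    rw [smul_mul_self Q.S.F.sq, (Q.S.hA a ha).1 _ ((hXb b hb).2 z), e, Q.S.F.mc _ (a • z * z), aa Q.S.F.sq]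
  have h3 : (a * b) • z = z := Q.S.i1 hXb (Q.wdX hX) hab hz (by rw [h2]; exact hd)
  exact (mem_fixingSubgroup_iff H).2 fun z' hz' => Q.S.two_mu (hXb _ hab) hz hz1 h3 hz'

theorem split_sup {X : Subgroup H} (hX : X ≤ A) (h1 : A₁ ≤ X) :
    A₁ ⊔ X ⊓ fixingSubgroup H ((h • lam : Subgroup M) : Set M) = X := by
  apply le_antisymm (sup_le h1 inf_le_left)
  intro b hb
  obtain ⟨a, ha, hab⟩ := Q.split hX hb h1
  have h2 : b = a⁻¹ * (a * b) := by group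
  rw [h2]
  exact mul_mem (Subgroup.inv_mem _ (mem_sup_left ha)) (mem_sup_right hab)

theorem split_inf {X : Subgroup H} : A₁ ⊓ (X ⊓ fixingSubgroup H ((h • lam : Subgroup M) : Set M)) = ⊥ := by
  obtain ⟨z, hz, hz1⟩ := Q.S.exists_mu
  rw [eq_bot_iff_forall]
  rintro a ⟨ha, -, ha'⟩
  exact Q.S.eq_one_of hz hz1 ha ((mem_fixingSubgroup_iff H).1 ha' z hz)

theorem split_card {X : Subgroup H} (hX : X ≤ A) (h1 : A₁ ≤ X) :
    Nat.card X = Nat.card A₁ * Nat.card (X ⊓ fixingSubgroup H ((h • lam : Subgroup M) : Set M) : Subgroup H) := by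
  have hXb : ∀ b ∈ X, IsBB U b := fun b hb => Q.I.hA b (hX hb)
  have h2 := card_sup_mul A₁ (X ⊓ fixingSubgroup H ((h • lam : Subgroup M) : Set M))
    (Q.S.F.le_norm Q.S.hA fun b hb => hXb b hb.1)
  rw [Q.split_sup hX h1, Q.split_inf, card_bot, mul_one] at h2
  exact h2

/-- `C_X(μ)` centralises `V` -/
theorem fix_V {X : Subgroup H} (hX : X ≤ A) {b : H}
    (hb : b ∈ X ⊓ fixingSubgroup H ((h • lam : Subgroup M) : Set M)) : ∀ v ∈ h • U, b • v = v := by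
  have hXb : ∀ b ∈ X, IsBB U b := fun b hb => Q.I.hA b (hX hb)
  obtain ⟨z₀, hz₀, hz₀1⟩ := Q.S.F.exists_ne
  intro v hv
  obtain ⟨b', hb', d', hd', rfl⟩ := Q.S.r2 hz₀ hz₀1 hv
  rw [smul_mul', Q.S.i2 hXb (Q.wdX hX) hb.1 ((mem_fixingSubgroup_iff H).1 hb.2) (Q.S.B_bb hb') hz₀,
    (hXb _ hb.1).1 d' hd'.1]

/-- `C_X(μ)` is exact if `X` is -/
theorem split_exact (hT : FattS lam U A) {X : Subgroup H} (hX : X ≤ A) (h1 : A₁ ≤ X) (hex : fo M X = Nat.card M) :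
    fo M (X ⊓ fixingSubgroup H ((h • lam : Subgroup M) : Set M)) = Nat.card M := by
  set P := X ⊓ fixingSubgroup H ((h • lam : Subgroup M) : Set M) with hP
  apply le_antisymm (Q.I.F.no P fun b hb => Q.I.hA b (hX hb.1))
  have h2 := card_mul_le (h • lam) (cv M (X : Set H)) (cv M (P : Set H))
    (fun v hv b hb => Q.fix_V hX hb v (Q.S.mu_le hv)) (cv_anti (SetLike.coe_subset_coe.2 inf_le_left))
  have h3 : h • lam ⊓ cv M (X : Set H) = ⊥ := by
    rw [eq_bot_iff_forall]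
    rintro v ⟨hv, hv'⟩
    exact Q.mu_D hv (Q.S.cvf (Q.S.mu_le hv) (hv' f (h1 Q.S.hf)))
  rw [h3, card_bot, one_mul, card_smul_eq, ← Q.card_A hT] at h2
  rw [← hex]
  unfold fo
  rw [Q.split_card hX h1, ← hP, mul_comm (Nat.card A₁), mul_assoc]
  exact Nat.mul_le_mul_left _ h2

/-- `[b, y] ∈ A₃^f₁` and `[[m, b], y] = [m, [b, y]]` -/
theorem comm {A₃ : Subgroup H} (h3 : ∀ b ∈ A₃, IsBB U b) (hex : fo M A₃ = Nat.card M)
    (hV : ∀ b ∈ A₃, ∀ v ∈ h • U, b • v = v) {b : H} (hb : b ∈ A₃) {y : H} (hy : y ∈ cj (h * f) A₁) :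
    y * b * y * b ∈ cj (h * f) A₃ ∧
      ∀ m : M, y • (b • m * m) * (b • m * m) = (y * b * y * b) • m * m := by
  have S := Q.S
  set C := cv M ((A₃ : Subgroup H) : Set H) with hC
  have hUC : U ≤ C := fun u hu b hb => (h3 b hb).1 u hu
  have hVC : h • U ≤ C := fun v hv b hb => hV b hb v hv
  have hfC : f ∈ MulAction.stabilizer H C :=
    MulAction.mem_stabilizer_iff.2 (S.smul_eq_of fun m _ => hUC ((S.hA f S.hf).2 m))
  have hgC : h * f * h⁻¹ ∈ MulAction.stabilizer H C :=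
    MulAction.mem_stabilizer_iff.2 (S.smul_eq_of fun m _ => hVC (S.g_bb.2 m))
  have hhC := S.h_mem _ hfC hgC
  have hf1C : (h * f) • C = C := MulAction.mem_stabilizer_iff.1 (mul_mem hhC hfC)
  have hX : KK H S.F.sq U C = A₃ := by
    symm
    refine eq_of_le_of_card_ge (fun b hb => mem_KK.2 ⟨h3 b hb, fun c hc => hc b hb⟩) ?_
    have h2 := S.F.no (KK H S.F.sq U C) fun x hx => (mem_KK.1 hx).1
    have h4 : Nat.card C ≤ Nat.card (cv M ((KK H S.F.sq U C : Subgroup H) : Set H)) :=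
      Subgroup.card_le_of_le fun c hc b hb => (mem_KK.1 hb).2 c hc
    rw [← hex] at h2
    unfold fo at h2
    rw [← hC] at h2
    refine Nat.le_of_mul_le_mul_right (c := Nat.card C) ?_ Nat.card_pos
    exact (Nat.mul_le_mul_left _ h4).trans h2
  have hyb := S.B_bb hy
  have hyy : ∀ m : M, y • y • m = m := fun m => by
    have h2 : y * y = 1 := by
      have h4 := S.F.bb_sq (S.hA _ (S.f1_cj' hy))
      have h5 : y * y = (h * f)⁻¹ * (((h * f) * y * (h * f)) * ((h * f) * y * (h * f))) * (h * f)⁻¹ := by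
        have h6 : (h * f)⁻¹ * (((h * f) * y * (h * f)) * ((h * f) * y * (h * f))) * (h * f)⁻¹ =
            y * ((h * f) * (h * f)) * y := by group
        rw [h6, S.f1_sq, mul_one]
      rw [h5, h4, mul_one, ← mul_inv_rev, S.f1_sq, inv_one]
    rw [← mul_smul, h2, one_smul]
  have hyC : ∀ c ∈ C, y • c ∈ C := by
    intro c hc
    have h2 : y • c = (y • c * c) * c := by rw [mul_assoc, S.F.sq, mul_one]
    rw [h2]
    exact mul_mem (hVC (hyb.2 c)) hc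
  have hbb : ∀ m : M, b • b • m = m := fun m => by
    rw [← mul_smul, S.F.bb_sq (h3 b hb), one_smul]
  have hbV : ∀ v ∈ h • U, b • v = v := hV b hb
  have hk4 : ∀ m : M, (y * b * y * b) • m * m = (y • b • m * b • m) * (y • m * m) := by
    intro m
    have h2 : y • b • m = (y • b • m * b • m) * b • m := by rw [mul_assoc, S.F.sq, mul_one]
    have h3 : b • y • b • m = (y • b • m * b • m) * m := by
      rw [h2, smul_mul', hbV _ (hyb.2 _), hbb]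
      rw [mul_assoc (y • b • m * b • m), S.F.sq, mul_one]
    rw [mul_smul, mul_smul, mul_smul, h3, smul_mul', hyb.1 _ (hyb.2 _), mul_assoc]
  have hkV : IsBB (h • U) (y * b * y * b) := by
    refine ⟨fun v hv => ?_, fun m => ?_⟩
    · rw [mul_smul, mul_smul, mul_smul, hbV v hv, hyb.1 v hv, hbV v hv, hyb.1 v hv]
    · rw [hk4]
      exact mul_mem (hyb.2 _) (hyb.2 _)
  have hkC : ∀ c ∈ C, (y * b * y * b) • c = c := by
    intro c hc
    rw [mul_smul, mul_smul, mul_smul, (hc b hb : b • c = c), (hyC c hc b hb : b • y • c = y • c), hyy]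
  refine ⟨?_, fun m => ?_⟩
  · rw [mem_cj, ← hX, mem_KK]
    refine ⟨?_, fun c hc => ?_⟩
    · have h2 := isBB_conj (h * f)⁻¹ hkV
      rw [inv_inv] at h2
      have h4 : (h * f)⁻¹ • h • U = U := by rw [S.f1_inv, S.f1_V]
      rwa [h4] at h2
    · rw [mul_smul, mul_smul]
      have h2 : (h * f) • c ∈ C := by
        rw [← hf1C]
        exact smul_mem_pointwise_smul _ _ _ hc
      rw [hkC _ h2, inv_smul_smul]
  · rw [hk4, phi_mul S.F.sq]

end At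

end Cfsg.Agent.Omega.NO3S.OneS
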