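import Cfsg.Agent.Omega.NOThree.NoOver

/-!
# THEOREM ONE_s (OMEGA, NO-3S, `s ≥ 4`; #18570 of helper49), frame and elementary facts; K-free

`H` acts faithfully on `M` (exponent two), `lam ≤ U ≤ M`, `|lam| = s ≥ 4`.  `Lam H lam` = the nonzero vectors of the
conjugates of `lam` (line vectors), `bb U = C_H(U) ∩ C_H(M/U)`, `br A = [M, A]`.

`Fr lam U` : TI, (COLL), elements of `C_H(U) ∩ C_H(M/U)` normalising a line subspace centralise it, (NO_U).
`TorAct`, `CenAct` : (F2') with the torus, resp. with a field acting.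
-/

set_option autoImplicit false
set_option maxHeartbeats 400000

namespace Cfsg.Agent.Omega.NO3S.OneS

open Subgroup Cfsg.Agent.ClassTwoFusion.Quad Cfsg.Agent.Omega.NOThree.NoOver
open scoped Pointwise

variable {H : Type*} [Group H] {M : Type*} [Group M] [MulDistribMulAction H M]

section sq

omit [Group H] [MulDistribMulAction H M]

variable (sq : ∀ m : M, m * m = 1)
include sq

theorem iv (a : M) : a⁻¹ = a := inv_eq_of_mul_eq_one_right (sq a)

theorem mc (a b : M) : a * b = b * a := by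
  have h1 := sq (a * b)
  have h2 : a * b = (a * b)⁻¹ := (iv sq _).symm
  rw [h2, mul_inv_rev, iv sq, iv sq]

theorem ml (a b c : M) : a * (b * c) = b * (a * c) := by rw [← mul_assoc, mc sq a b, mul_assoc]

theorem aa (a b : M) : a * (a * b) = b := by rw [← mul_assoc, sq, one_mul]

theorem eqm {a b : M} (h : a * b = 1) : a = b := by
  have := eq_inv_of_mul_eq_one_left h
  rw [this, iv sq]

end sq

variable (H) in
/-- the line vectors -/
def Lam (lam : Subgroup M) : Set M := {v | v ≠ 1 ∧ ∃ h : H, v ∈ h • lam}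

/-- `C_H(U) ∩ C_H(M/U)` (as a predicate) -/
def IsBB (U : Subgroup M) (b : H) : Prop := (∀ u ∈ U, b • u = u) ∧ ∀ m : M, (b • m) * m ∈ U

/-- `y x m = (x m) * (x' m) ...` -/
theorem smul_mul_self (sq : ∀ m : M, m * m = 1) (a b : H) (m : M) :
    (a * b) • m * m = a • (b • m * m) * (a • m * m) := by
  rw [mul_smul, smul_mul']
  simp only [mul_assoc, aa sq]

variable (H) in
/-- `C_H(U) ∩ C_H(M/U)` for `M` of exponent two -/
def bb (sq : ∀ m : M, m * m = 1) (U : Subgroup M) : Subgroup H where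
  carrier := {b | IsBB U b}
  one_mem' := ⟨fun u _ => one_smul _ _, fun m => by rw [one_smul, sq]; exact U.one_mem⟩
  mul_mem' := by
    rintro a b ⟨ha, ha'⟩ ⟨hb, hb'⟩
    refine ⟨fun u hu => by rw [mul_smul, hb u hu, ha u hu], fun m => ?_⟩
    rw [smul_mul_self sq, ha _ (hb' m)]
    exact U.mul_mem (hb' m) (ha' m)
  inv_mem' := by
    rintro a ⟨ha, ha'⟩
    refine ⟨fun u hu => by rw [inv_smul_eq_iff, ha u hu], fun m => ?_⟩
    have h1 := ha' (a⁻¹ • m)
    rw [smul_inv_smul] at h1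
    rw [mc sq]
    exact h1

theorem mem_bb {sq : ∀ m : M, m * m = 1} {U : Subgroup M} {b : H} : b ∈ bb H sq U ↔ IsBB U b := Iff.rfl

/-- `[M, A]` for `M` of exponent two -/
def br (A : Subgroup H) : Subgroup M := closure {v | ∃ a ∈ A, ∃ m : M, v = (a • m) * m}

theorem mem_br {A : Subgroup H} {a : H} (ha : a ∈ A) (m : M) : (a • m) * m ∈ br A :=
  subset_closure ⟨a, ha, m, rfl⟩

theorem br_le {A : Subgroup H} {X : Subgroup M} (h : ∀ a ∈ A, ∀ m : M, (a • m) * m ∈ X) : br A ≤ X := by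
  refine (closure_le _).2 ?_
  rintro _ ⟨a, ha, m, rfl⟩
  exact h a ha m

theorem br_cj (g : H) (A : Subgroup H) : br (cj g A) = g • (br A : Subgroup M) := by
  apply le_antisymm
  · refine br_le fun a ha m => ?_
    rw [mem_cj] at ha
    rw [mem_pointwise_smul_iff_inv_smul_mem, smul_mul']
    have h1 := mem_br ha (g⁻¹ • m)
    rw [← mul_smul, mul_assoc, mul_assoc, mul_inv_cancel, mul_one, mul_smul] at h1
    exact h1
  · rintro _ ⟨x, hx, rfl⟩
    rw [br] at hx
    change g • x ∈ _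
    induction hx using closure_induction with
    | mem x hx =>
      obtain ⟨a, ha, m, rfl⟩ := hx
      have h1 : g * a * g⁻¹ ∈ cj g A := by
        rw [mem_cj]
        simpa [mul_assoc] using ha
      have h2 := mem_br h1 (g • m)
      rw [smul_mul']
      rwa [mul_smul, inv_smul_smul, mul_smul] at h2
    | one => rw [smul_one]; exact one_mem _
    | mul x y _ _ hx hy => rw [smul_mul']; exact mul_mem hx hy
    | inv x _ hx => rw [smul_inv']; exact inv_mem hx

/-- the frame -/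
structure Fr (H : Type*) [Group H] {M : Type*} [Group M] [MulDistribMulAction H M] (lam U : Subgroup M) : Prop where
  sq : ∀ m : M, m * m = 1
  faith : ∀ h : H, (∀ m : M, h • m = m) → h = 1
  le : lam ≤ U
  stab : ∀ h : H, h • lam = lam → h • U = U
  ti : ∀ h : H, h • lam ⊓ lam ≠ ⊥ → h • lam = lam
  coll : ∀ h : H, h • lam ≠ lam → h • lam ⊓ U ≠ ⊥ → ∀ v ∈ h • lam ⊔ lam, v ≠ 1 → v ∈ Lam H lam
  two : ∀ b : H, IsBB U b → ∀ g : H, b • g • lam = g • lam → ∀ v ∈ g • lam, b • v = v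
  no : ∀ X : Subgroup H, (∀ x ∈ X, IsBB U x) → fo M X ≤ Nat.card M
  four : 4 ≤ Nat.card lam

/-- the torus version of (F2') -/
structure TorAct (H : Type*) [Group H] {M : Type*} [Group M] [MulDistribMulAction H M] (lam U : Subgroup M) : Prop where
  tor : ∀ z ∈ lam, z ≠ 1 → ∀ z' ∈ lam, z' ≠ 1 →
    ∃ t : H, t • lam = lam ∧ (∀ u ∈ U, (t • u) * u ∈ lam) ∧ t • z = z'
  act : ∀ u ∈ U, u ∉ lam → ∃ k : H, (∀ z ∈ lam, k • z = z) ∧ (∀ u ∈ U, (k • u) * u ∈ lam) ∧ k • u ≠ u

/-- the version of (F2') with endomorphisms commuting with `H` -/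
structure CenAct (H : Type*) [Group H] {M : Type*} [Group M] [MulDistribMulAction H M] (lam U : Subgroup M) : Prop where
  cen : ∀ z ∈ lam, z ≠ 1 → ∀ z' ∈ lam, ∃ θ : M →* M, (∀ (h : H) (m : M), θ (h • m) = h • θ m) ∧
    (∀ u ∈ U, θ u ∈ U) ∧ θ z = z'
  act : ∀ u ∈ U, u ∉ lam → ∀ z ∈ lam,
    ∃ k : H, (∀ z ∈ lam, k • z = z) ∧ (∀ u ∈ U, (k • u) * u ∈ lam) ∧ k • u = u * z

theorem smul_eq_of_fix {X : Subgroup M} {g : H} (h : ∀ x ∈ X, g • x = x) : g • X = X := by
  apply le_antisymm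
  · rintro _ ⟨x, hx, rfl⟩
    change g • x ∈ X
    rw [h x hx]
    exact hx
  · intro x hx
    rw [mem_pointwise_smul_iff_inv_smul_mem, inv_smul_eq_iff.2 (h x hx).symm]
    exact hx

theorem card_smul_eq (g : H) (X : Subgroup M) : Nat.card (g • X : Subgroup M) = Nat.card X :=
  (Nat.card_congr (equivSMul g X).toEquiv).symm

theorem ne_bot_iff' {X : Subgroup M} : X ≠ ⊥ ↔ ∃ x ∈ X, x ≠ 1 := by
  rw [Ne, eq_bot_iff_forall]
  push Not
  rfl

theorem isBB_conj {U : Subgroup M} {b : H} (g : H) (h : IsBB U b) : IsBB (g • U) (g * b * g⁻¹) := by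
  refine ⟨fun u hu => ?_, fun m => ?_⟩
  · rw [mem_pointwise_smul_iff_inv_smul_mem] at hu
    rw [mul_smul, mul_smul, h.1 _ hu, smul_inv_smul]
  · rw [mem_pointwise_smul_iff_inv_smul_mem, smul_mul', ← mul_smul]
    have h1 := h.2 (g⁻¹ • m)
    rw [← mul_smul] at h1
    have h2 : g⁻¹ * (g * b * g⁻¹) = b * g⁻¹ := by group
    rw [h2]
    exact h1

namespace Fr

variable {lam U : Subgroup M} (F : Fr H lam U)
include F

theorem mc (a b : M) : a * b = b * a := OneS.mc F.sq a b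

/-- an element of `C_H(U) ∩ C_H(M/U)` is an involution -/
theorem bb_sq {b : H} (hb : IsBB U b) : b * b = 1 := by
  apply F.faith
  intro m
  have h1 := hb.1 _ (hb.2 m)
  rw [smul_mul', ← mul_smul] at h1
  have h2 : (b * b) • m = (b • m * m) * b • m := by
    rw [← h1, mul_assoc, F.sq, mul_one]
  rw [h2, F.mc (b • m) m, mul_assoc, F.sq, mul_one]

theorem bb_comm {a b : H} (ha : IsBB U a) (hb : IsBB U b) : a * b = b * a := by
  have h1 : IsBB U (a * b) := (bb H F.sq U).mul_mem ha hb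
  have h2 := F.bb_sq h1
  have h3 := F.bb_sq ha
  have h4 := F.bb_sq hb
  calc a * b = (b * b) * (a * b) * (a * a) := by rw [h3, h4, one_mul, mul_one]
    _ = b * (b * a) * (b * a) * a := by group
    _ = b * ((b * a) * (b * a)) * a := by group
    _ = b * a := by
        have h5 : (b * a) * (b * a) = 1 := F.bb_sq ((bb H F.sq U).mul_mem hb ha)
        rw [h5, mul_one]

/-- general (TI) -/
theorem ti' {g k : H} (h : g • lam ⊓ k • lam ≠ ⊥) : g • lam = k • lam := by
  obtain ⟨x, hx, hx1⟩ := ne_bot_iff'.1 h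
  have h1 : (k⁻¹ * g) • lam ⊓ lam ≠ ⊥ := by
    refine ne_bot_iff'.2 ⟨k⁻¹ • x, ⟨?_, ?_⟩, ?_⟩
    · rw [mul_smul]
      exact smul_mem_pointwise_smul _ _ _ hx.1
    · have := smul_mem_pointwise_smul x k⁻¹ _ hx.2
      rwa [inv_smul_smul] at this
    · intro hc
      apply hx1
      rw [inv_smul_eq_iff, smul_one] at hc
      exact hc
  have h2 := F.ti _ h1
  rw [mul_smul, inv_smul_eq_iff] at h2
  exact h2

/-- general (COLL) -/
theorem coll' {g k : H} (hne : g • lam ≠ k • lam) {x : M} (hx : x ∈ g • lam) (hx' : x ∈ k • U) (hx1 : x ≠ 1) {v : M}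
    (hv : v ∈ g • lam ⊔ k • lam) (hv1 : v ≠ 1) : v ∈ Lam H lam := by
  have h1 : (k⁻¹ * g) • lam ≠ lam := by
    intro h
    apply hne
    rw [mul_smul, inv_smul_eq_iff] at h
    exact h
  have h2 : (k⁻¹ * g) • lam ⊓ U ≠ ⊥ := by
    refine ne_bot_iff'.2 ⟨k⁻¹ • x, ⟨?_, ?_⟩, ?_⟩
    · rw [mul_smul]
      exact smul_mem_pointwise_smul _ _ _ hx
    · have := smul_mem_pointwise_smul x k⁻¹ _ hx'
      rwa [inv_smul_smul] at this
    · intro hc
      apply hx1
      rw [inv_smul_eq_iff, smul_one] at hc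
      exact hc
  have h3 : k⁻¹ • v ∈ (k⁻¹ * g) • lam ⊔ lam := by
    have := smul_mem_pointwise_smul v k⁻¹ _ hv
    rwa [smul_sup, inv_smul_smul, ← mul_smul] at this
  have h4 : k⁻¹ • v ≠ 1 := by
    intro hc
    apply hv1
    rw [inv_smul_eq_iff, smul_one] at hc
    exact hc
  obtain ⟨-, l, hl⟩ := F.coll _ h1 h2 _ h3 h4
  refine ⟨hv1, k * l, ?_⟩
  rw [mul_smul]
  have := smul_mem_pointwise_smul _ k _ hl
  rwa [smul_inv_smul] at this

theorem stab' {g k : H} (h : g • lam = k • lam) : g • U = k • U := by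
  have h1 : (k⁻¹ * g) • lam = lam := by rw [mul_smul, h, inv_smul_smul]
  have h2 := F.stab _ h1
  rw [mul_smul, inv_smul_eq_iff] at h2
  exact h2

/-- general `two` -/
theorem two' {g b : H} (hb : IsBB U b) (h : b • g • lam = g • lam) {v : M} (hv : v ∈ g • lam) : b • v = v :=
  F.two b hb g h v hv

theorem exists_ne : ∃ z ∈ lam, z ≠ 1 := by
  apply ne_bot_iff'.1
  rintro rfl
  have := F.four
  rw [Subgroup.card_bot] at this
  omega

end Fr

end Cfsg.Agent.Omega.NO3S.OneS
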