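import Cfsg.Agent.Omega.NO3S.OneS.Reg

/-!
# THEOREM ONE_s (OMEGA, NO-3S, `s ≥ 4`; #18570 of helper49): the conjugates `A^g`, `g` trivial on `U/lam`; K-free

`Semi lam U g` : `g` stabilises `lam` and acts trivially on `U/lam`.  `A^g` induces on `V` a subgroup of what `A`
induces (`act_V`); its subgroup fixing `V` is `1` or `A^g` (`dich`); in the first case `[M, A]^g = [M, A]` (`same`), in
the second `[[M, A]^g, B] ≤ ([M, A]^g)^f₁` (`three`).
-/

set_option autoImplicit false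
set_option maxHeartbeats 400000

namespace Cfsg.Agent.Omega.NO3S.OneS

open Subgroup Cfsg.Agent.ClassTwoFusion.Quad Cfsg.Agent.Omega.NOThree.NoOver
open scoped Pointwise

variable {H : Type*} [Group H] {M : Type*} [Group M] [MulDistribMulAction H M]

/-- `g ∈ Stab(lam)` is trivial on `U/lam` -/
structure Semi (lam U : Subgroup M) (g : H) : Prop where
  st : g • lam = lam
  cl : ∀ u ∈ U, g • u * u ∈ lam

variable (H) in
/-- the elements of `C_H(U) ∩ C_H(M/U)` with `[M, b] ≤ X` -/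
def bx (sq : ∀ m : M, m * m = 1) (U X : Subgroup M) : Subgroup H where
  carrier := {b | IsBB U b ∧ ∀ m : M, b • m * m ∈ X}
  one_mem' := ⟨(bb H sq U).one_mem, fun m => by rw [one_smul, sq]; exact X.one_mem⟩
  mul_mem' := by
    rintro a b ⟨ha, ha'⟩ ⟨hb, hb'⟩
    refine ⟨(bb H sq U).mul_mem ha hb, fun m => ?_⟩
    rw [smul_mul_self sq, ha.1 _ (hb.2 m)]
    exact X.mul_mem (hb' m) (ha' m)
  inv_mem' := by
    rintro a ⟨ha, ha'⟩
    refine ⟨(bb H sq U).inv_mem ha, fun m => ?_⟩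
    have h1 := ha' (a⁻¹ • m)
    rw [smul_inv_smul] at h1
    rw [mc sq]
    exact h1

variable (H) in
/-- the elements of `C_H(U) ∩ C_H(M/U)` fixing `V` pointwise -/
def KK (sq : ∀ m : M, m * m = 1) (U V : Subgroup M) : Subgroup H := bb H sq U ⊓ fixingSubgroup H (V : Set M)

theorem mem_KK {sq : ∀ m : M, m * m = 1} {U V : Subgroup M} {b : H} :
    b ∈ KK H sq U V ↔ IsBB U b ∧ ∀ v ∈ V, b • v = v := by
  rw [KK, mem_inf, mem_fixingSubgroup_iff]
  rfl

theorem card_cj (g : H) (X : Subgroup H) : Nat.card (cj g X) = Nat.card X :=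
  (Nat.card_congr (X.equivMapOfInjective _ (MulAut.conj g).injective).toEquiv).symm

theorem cj_inv_cj (g : H) (X : Subgroup H) : cj g (cj g⁻¹ X) = X := by
  ext x
  rw [mem_cj, mem_cj]
  have : g⁻¹⁻¹ * (g⁻¹ * x * g) * g⁻¹ = x := by group
  rw [this]

theorem cj_inv_cj' (g : H) (X : Subgroup H) : cj g⁻¹ (cj g X) = X := by
  ext x
  rw [mem_cj, mem_cj]
  have : g⁻¹ * (g⁻¹⁻¹ * x * g⁻¹) * g = x := by group
  rw [this]

namespace Fr

variable {lam U : Subgroup M} (F : Fr H lam U)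
include F

theorem le_norm {X Y : Subgroup H} (hX : ∀ x ∈ X, IsBB U x) (hY : ∀ y ∈ Y, IsBB U y) :
    X ≤ normalizer (Y : Set H) := by
  intro x hx
  have hc : ∀ y : H, IsBB U y → x * y * x⁻¹ = y := fun y hy => by
    rw [F.bb_comm (hX x hx) hy, mul_inv_cancel_right]
  rw [mem_normalizer_iff]
  intro y
  constructor
  · intro hy
    rw [hc y (hY y hy)]
    exact hy
  · intro hy
    have h1 := hY _ hy
    have h2 : x⁻¹ * (x * y * x⁻¹) * x⁻¹⁻¹ = y := by group
    have h3 : x⁻¹ * (x * y * x⁻¹) * x⁻¹⁻¹ = x * y * x⁻¹ := by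
      rw [F.bb_comm ((bb H F.sq U).inv_mem (hX x hx) : IsBB U x⁻¹) h1, mul_inv_cancel_right]
    rw [← h2, h3]
    exact hy

theorem semi_U {g : H} (hg : Semi lam U g) : g • U = U := F.stab g hg.st

theorem cj_bb {g : H} (hg : Semi lam U g) {A : Subgroup H} (hA : ∀ a ∈ A, IsBB U a) :
    ∀ b ∈ cj g A, IsBB U b := by
  intro b hb
  rw [mem_cj] at hb
  have h1 := isBB_conj g (hA _ hb)
  rw [F.semi_U hg] at h1
  have h2 : g * (g⁻¹ * b * g) * g⁻¹ = b := by group
  rwa [h2] at h1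

theorem sup_bb {X Y : Subgroup H} (hX : ∀ x ∈ X, IsBB U x) (hY : ∀ y ∈ Y, IsBB U y) :
    ∀ b ∈ X ⊔ Y, IsBB U b := by
  have h1 : X ⊔ Y ≤ bb H F.sq U := sup_le (fun x hx => hX x hx) (fun y hy => hY y hy)
  exact fun b hb => h1 hb

end Fr

namespace Sit

variable {lam U : Subgroup M} {A : Subgroup H} {f h : H} (S : Sit lam U A f h)
include S

theorem br_le_U : br A ≤ U := br_le fun a ha m => (S.hA a ha).2 m

theorem smul_br_le {g : H} (hg : Semi lam U g) : g • (br A : Subgroup M) ≤ br A ⊔ lam := by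
  rintro _ ⟨r, hr, rfl⟩
  change g • r ∈ _
  have h1 : g • r = r * (g • r * r) := by rw [S.F.mc r, mul_assoc, S.F.sq, mul_one]
  rw [h1]
  exact mul_mem (mem_sup_left hr) (mem_sup_right (hg.cl r (S.br_le_U hr)))

theorem br_sup_le {g : H} (hg : Semi lam U g) : br (A ⊔ cj g A) ≤ br A ⊔ lam := by
  have h1 : A ⊔ cj g A ≤ bx H S.F.sq U (br A ⊔ lam) := by
    refine sup_le (fun a ha => ⟨S.hA a ha, fun m => mem_sup_left (mem_br ha m)⟩) ?_
    intro b hb
    refine ⟨S.F.cj_bb hg S.hA b hb, fun m => S.smul_br_le hg ?_⟩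
    rw [← br_cj]
    exact mem_br hb m
  exact br_le fun a ha m => (h1 ha).2 m

theorem wd' {g : H} (hg : Semi lam U g) (v : M) (hv : v ∈ U ⊓ h • U) (hv' : v ∈ br (A ⊔ cj g A)) :
    v ∉ Lam H lam := S.wd v hv (S.br_sup_le hg hv')

variable [Finite H] [Finite M]

/-- what `A^g` induces on `V` is induced by `A` -/
theorem act_V {g : H} (hg : Semi lam U g) {b : H} (hb : b ∈ A ⊔ cj g A) :
    ∃ a ∈ A, ∀ v ∈ h • U, (a * b) • v = v := by
  obtain ⟨z, hz, hz1⟩ := S.exists_mu
  have hP := S.F.sup_bb S.hA (S.F.cj_bb hg S.hA)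
  obtain ⟨a, ha, d, hd, e⟩ := S.r1 hz hz1 ((hP b hb).2 z)
  refine ⟨a, ha, ?_⟩
  have hc : a * b ∈ A ⊔ cj g A := mul_mem (mem_sup_left ha) hb
  have h1 : (a * b) • z * z = d := by
    rw [smul_mul_self S.F.sq, (S.hA a ha).1 _ ((hP b hb).2 z), e, S.F.mc _ (a • z * z), aa S.F.sq]
  have h2 : (a * b) • z = z := S.i1 hP (S.wd' hg) hc hz (by rw [h1]; exact hd)
  have h3 : ∀ z' ∈ h • lam, (a * b) • z' = z' := fun z' hz' => S.two_mu (hP _ hc) hz hz1 h2 hz'
  obtain ⟨z₀, hz₀, hz₀1⟩ := S.F.exists_ne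
  intro v hv
  obtain ⟨b', hb', d', hd', rfl⟩ := S.r2 hz₀ hz₀1 hv
  rw [smul_mul', S.i2 hP (S.wd' hg) hc h3 (S.B_bb hb') hz₀, (hP _ hc).1 d' hd'.1]

/-- `A ∩ K = 1`, `K` the elements of `C_H(U) ∩ C_H(M/U)` fixing `V` -/
theorem inf_KK : A ⊓ KK H S.F.sq U (h • U) = ⊥ := by
  obtain ⟨z, hz, hz1⟩ := S.exists_mu
  rw [eq_bot_iff_forall]
  rintro a ⟨ha, ha'⟩
  exact S.eq_one_of hz hz1 ha ((mem_KK.1 ha').2 z (S.mu_le hz))

omit [Finite H] [Finite M] in
theorem KK_bb : ∀ b ∈ KK H S.F.sq U (h • U), IsBB U b := fun _ hb => (mem_KK.1 hb).1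

/-- the element of `A` acting like `b ∈ A^g` is in `E` -/
theorem mem_E {g : H} {a b : H} (ha : a ∈ A) (hb : b ∈ cj g A) (hg : Semi lam U g)
    (hab : ∀ v ∈ h • U, (a * b) • v = v) :
    a ∈ A ⊓ (cj g A ⊔ KK H S.F.sq U (h • U)) := by
  refine ⟨ha, ?_⟩
  have h1 : a * b ∈ KK H S.F.sq U (h • U) :=
    mem_KK.2 ⟨(bb H S.F.sq U).mul_mem (S.hA a ha) (S.F.cj_bb hg S.hA b hb), hab⟩
  have h2 : a = (a * b) * b⁻¹ := by group
  rw [h2]
  exact mul_mem (mem_sup_right h1) (Subgroup.inv_mem _ (mem_sup_left hb))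

theorem sup_KK {g : H} (hg : Semi lam U g) :
    A ⊓ (cj g A ⊔ KK H S.F.sq U (h • U)) ⊔ KK H S.F.sq U (h • U) = cj g A ⊔ KK H S.F.sq U (h • U) := by
  apply le_antisymm
  · exact sup_le inf_le_right le_sup_right
  · refine sup_le ?_ le_sup_right
    intro b hb
    obtain ⟨a, ha, hab⟩ := S.act_V hg (mem_sup_right hb)
    have h1 : a * b ∈ KK H S.F.sq U (h • U) :=
      mem_KK.2 ⟨(bb H S.F.sq U).mul_mem (S.hA a ha) (S.F.cj_bb hg S.hA b hb), hab⟩
    have h2 : b = a⁻¹ * (a * b) := by group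
    rw [h2]
    exact mul_mem (Subgroup.inv_mem _ (mem_sup_left (S.mem_E ha hb hg hab))) (mem_sup_right h1)

theorem card_E {g : H} (hg : Semi lam U g) :
    Nat.card (A ⊓ (cj g A ⊔ KK H S.F.sq U (h • U)) : Subgroup H) *
      Nat.card (cj g A ⊓ KK H S.F.sq U (h • U) : Subgroup H) = Nat.card A := by
  set K := KK H S.F.sq U (h • U) with hK
  set E := A ⊓ (cj g A ⊔ K) with hE
  have hEb : ∀ x ∈ E, IsBB U x := fun x hx => S.hA x hx.1
  have h1 := card_sup_mul E K (S.F.le_norm hEb S.KK_bb)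
  have h2 := card_sup_mul (cj g A) K (S.F.le_norm (S.F.cj_bb hg S.hA) S.KK_bb)
  have h3 : E ⊓ K = ⊥ := by
    rw [eq_bot_iff, ← S.inf_KK]
    exact inf_le_inf_right _ inf_le_left
  rw [h3, card_bot, mul_one, S.sup_KK hg] at h1
  rw [h1, card_cj] at h2
  have h4 : 0 < Nat.card K := Nat.card_pos
  apply Nat.eq_of_mul_eq_mul_left h4
  rw [← mul_assoc, mul_comm (Nat.card K) (Nat.card E), h2, mul_comm]

theorem cv_E {g : H} (hg : Semi lam U g) :
    h • U ⊓ cv M ((A ⊓ (cj g A ⊔ KK H S.F.sq U (h • U)) : Subgroup H) : Set H) =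
      h • U ⊓ cv M ((cj g A : Subgroup H) : Set H) := by
  apply le_antisymm
  · rintro v ⟨hv, hv'⟩
    refine ⟨hv, fun b hb => ?_⟩
    obtain ⟨a, ha, hab⟩ := S.act_V hg (mem_sup_right hb)
    have h1 := hv' a (S.mem_E ha hb hg hab)
    have h2 := hab v hv
    rw [mul_smul] at h2
    have h3 := S.F.bb_sq (S.hA a ha)
    rw [← one_smul H (b • v), ← h3, mul_smul, h2, h1]
  · rintro v ⟨hv, hv'⟩
    refine ⟨hv, ?_⟩
    have h1 : cj g A ⊔ KK H S.F.sq U (h • U) ≤ MulAction.stabilizer H v :=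
      sup_le (fun b hb => MulAction.mem_stabilizer_iff.2 (hv' b hb))
        (fun b hb => MulAction.mem_stabilizer_iff.2 ((mem_KK.1 hb).2 v hv))
    exact fun b hb => MulAction.mem_stabilizer_iff.1 (h1 hb.2)

theorem V_sup : h • U ⊔ cv M (A : Set H) = ⊤ := by
  rw [eq_top_iff]
  intro m _
  obtain ⟨v, hv, c, hc, rfl⟩ := S.r3 m
  exact mul_mem (mem_sup_left hv) (mem_sup_right hc)

omit [Finite H] [Finite M] in
theorem card_supM (X Y : Subgroup M) :
    Nat.card (X ⊔ Y : Subgroup M) * Nat.card (X ⊓ Y : Subgroup M) = Nat.card X * Nat.card Y := by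
  refine card_sup_mul X Y ?_
  have := nrm S.F.sq Y
  rw [normalizer_eq_top]
  exact le_top

omit [Finite H] [Finite M] in
theorem hmin' {g : H} {X : Subgroup H} (hX : X ≤ cj g A) (h1 : X ≠ ⊥) (h2 : X ≠ cj g A) :
    fo M X < Nat.card M := by
  have h3 : fo M (cj g⁻¹ X) = fo M X := Star.map_fo g⁻¹ X
  rw [← h3]
  refine S.hmin _ ?_ ?_ ?_
  · have := cj_mono (g := g⁻¹) hX
    rwa [cj_inv_cj'] at this
  · intro hc
    apply h1
    rw [← cj_inv_cj g X, hc]
    exact Subgroup.map_bot _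
  · intro hc
    apply h2
    rw [← cj_inv_cj g X, hc]

/-- the elements of `A^g` fixing `V` : all or nothing -/
theorem dich {g : H} (hg : Semi lam U g) :
    cj g A ⊓ KK H S.F.sq U (h • U) = ⊥ ∨ cj g A ≤ KK H S.F.sq U (h • U) := by
  by_contra hcon
  push Not at hcon
  obtain ⟨hc1, hc2⟩ := hcon
  set K := KK H S.F.sq U (h • U) with hK
  set A0 := cj g A ⊓ K with hA0
  have h6 : fo M A0 < Nat.card M := S.hmin' inf_le_left hc1 fun hc => hc2 (inf_eq_left.1 hc)
  have h1 := S.card_E hg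
  set E := A ⊓ (cj g A ⊔ K) with hE
  have h2 : fo M (cj g A) = Nat.card M := (Star.map_fo g A).trans S.hex
  have h3 : fo M E ≤ Nat.card M := S.F.no E fun x hx => S.hA x hx.1
  have h4 := S.card_supM (h • U) (cv M (E : Set H))
  have h4' : h • U ⊔ cv M (E : Set H) = ⊤ := by
    rw [eq_top_iff, ← S.V_sup]
    exact sup_le_sup_left (cv_anti (SetLike.coe_subset_coe.2 inf_le_left)) _
  rw [h4', card_top, S.cv_E hg] at h4
  have h5 := card_mul_le (h • U) (cv M ((cj g A : Subgroup H) : Set H)) (cv M (A0 : Set H))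
    (fun v hv b hb => (mem_KK.1 hb.2).2 v hv) (cv_anti (SetLike.coe_subset_coe.2 inf_le_left))
  change Nat.card E * Nat.card A0 = Nat.card A at h1
  unfold fo at h2 h3 h6
  rw [card_cj] at h2
  generalize Nat.card E = e at *
  generalize Nat.card (A0 : Subgroup H) = a0 at *
  generalize Nat.card (cv M ((cj g A : Subgroup H) : Set H)) = cg at *
  generalize Nat.card (cv M (A0 : Set H)) = c0 at *
  have hvE : 0 < Nat.card (h • U ⊓ cv M ((cj g A : Subgroup H) : Set H) : Subgroup M) := Nat.card_pos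
  generalize Nat.card (h • U ⊓ cv M ((cj g A : Subgroup H) : Set H) : Subgroup M) = vE at *
  have hcE : 0 < Nat.card (cv M (E : Set H)) := Nat.card_pos
  generalize Nat.card (cv M (E : Set H)) = cE at *
  generalize Nat.card (h • U : Subgroup M) = v at *
  generalize Nat.card A = a at *
  generalize Nat.card M = m at *
  have h7 : e * vE ≤ v := by
    refine Nat.le_of_mul_le_mul_right (c := cE) ?_ hcE
    calc e * vE * cE = (e * cE) * vE := by ring
      _ ≤ m * vE := Nat.mul_le_mul_right _ h3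
      _ = v * cE := h4
  have h8 : e * cg ≤ c0 := by
    refine (Nat.mul_le_mul_left_iff hvE).1 ?_
    calc vE * (e * cg) = (e * vE) * cg := by ring
      _ ≤ v * cg := Nat.mul_le_mul_right _ h7
      _ ≤ vE * c0 := h5
  have h9 : m ≤ a0 * c0 := by
    calc m = a0 * (e * cg) := by rw [← h2, ← h1]; ring
      _ ≤ a0 * c0 := Nat.mul_le_mul_left _ h8
  omega

/-- first case: `[M, A]^g = [M, A]` -/
theorem same {g : H} (hg : Semi lam U g) (h0 : cj g A ⊓ KK H S.F.sq U (h • U) = ⊥) :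
    g • (br A : Subgroup M) = br A := by
  have h1 := S.card_E hg
  rw [h0, card_bot, mul_one] at h1
  have h2 : A ⊓ (cj g A ⊔ KK H S.F.sq U (h • U)) = A := eq_of_le_of_card_ge inf_le_left h1.ge
  have h3 := S.cv_E hg
  rw [h2] at h3
  have h4 := S.card_supM (h • U) (cv M (A : Set H))
  have h5 := S.card_supM (h • U) (cv M ((cj g A : Subgroup H) : Set H))
  have h6 : Nat.card (cv M ((cj g A : Subgroup H) : Set H)) = Nat.card (cv M (A : Set H)) := by
    have h7 : fo M (cj g A) = fo M A := Star.map_fo g A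
    unfold fo at h7
    rw [card_cj] at h7
    exact Nat.eq_of_mul_eq_mul_left Nat.card_pos h7
  rw [← h3, h6, ← h4, h3] at h5
  have h7 : h • U ⊔ cv M ((cj g A : Subgroup H) : Set H) = ⊤ := by
    apply eq_top_of_card_eq
    rw [Nat.eq_of_mul_eq_mul_right Nat.card_pos h5, S.V_sup, card_top]
  have h8 : (br (cj g A) : Subgroup M) ≤ br A := by
    refine br_le fun b hb m => ?_
    have hm : m ∈ h • U ⊔ cv M ((cj g A : Subgroup H) : Set H) := by
      rw [h7]
      trivial
    obtain ⟨v, hv, c, hc, rfl⟩ := (mem_sup' S.F.sq).1 hm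
    obtain ⟨a, ha, hab⟩ := S.act_V hg (mem_sup_right hb)
    have h9 := hab v hv
    rw [mul_smul] at h9
    have h10 : b • v = a • v := by
      rw [← one_smul H (b • v), ← S.F.bb_sq (S.hA a ha), mul_smul, h9]
    have h11 : b • c = c := hc b hb
    rw [smul_mul', h10, h11, mul_assoc, S.F.mc v c, aa S.F.sq]
    exact mem_br ha v
  rw [br_cj] at h8
  exact eq_of_le_of_card_ge h8 (card_smul_eq _ _).ge

omit [Finite H] in
theorem smul_eq_of {X : Subgroup M} {x : H} (hx : ∀ m ∈ X, x • m * m ∈ X) : x • X = X := by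
  refine eq_of_le_of_card_ge ?_ (card_smul_eq _ _).ge
  rintro _ ⟨c, hc, rfl⟩
  change x • c ∈ X
  have h1 : x • c = (x • c * c) * c := by rw [mul_assoc, S.F.sq, mul_one]
  rw [h1]
  exact mul_mem (hx c hc) hc

/-- second case -/
theorem three {g : H} (hg : Semi lam U g) (h1 : cj g A ≤ KK H S.F.sq U (h • U)) {r : M}
    (hr : r ∈ g • (br A : Subgroup M)) {y : H} (hy : y ∈ cj (h * f) A) :
    y • r * r ∈ (h * f) • g • (br A : Subgroup M) := by
  set C := cv M ((cj g A : Subgroup H) : Set H) with hC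
  have hAg := S.F.cj_bb hg S.hA
  have hUC : U ≤ C := fun u hu b hb => (hAg b hb).1 u hu
  have hVC : h • U ≤ C := fun v hv b hb => (mem_KK.1 (h1 hb)).2 v hv
  have hfC : f ∈ MulAction.stabilizer H C :=
    MulAction.mem_stabilizer_iff.2 (S.smul_eq_of fun m _ => hUC ((S.hA f S.hf).2 m))
  have hgC : h * f * h⁻¹ ∈ MulAction.stabilizer H C :=
    MulAction.mem_stabilizer_iff.2 (S.smul_eq_of fun m _ => hVC (S.g_bb.2 m))
  have hhC := S.h_mem _ hfC hgC
  have hf1C : (h * f) • C = C := MulAction.mem_stabilizer_iff.1 (mul_mem hhC hfC)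
  -- the double centraliser
  have hX : KK H S.F.sq U C = cj g A := by
    symm
    refine eq_of_le_of_card_ge (fun b hb => mem_KK.2 ⟨hAg b hb, fun c hc => hc b hb⟩) ?_
    have h2 := S.F.no (KK H S.F.sq U C) fun x hx => (mem_KK.1 hx).1
    have h3 : fo M (cj g A) = Nat.card M := (Star.map_fo g A).trans S.hex
    have h4 : Nat.card C ≤ Nat.card (cv M ((KK H S.F.sq U C : Subgroup H) : Set H)) :=
      Subgroup.card_le_of_le fun c hc b hb => (mem_KK.1 hb).2 c hc
    rw [← h3] at h2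
    unfold fo at h2
    rw [← hC] at h2
    refine Nat.le_of_mul_le_mul_right (c := Nat.card C) ?_ Nat.card_pos
    exact (Nat.mul_le_mul_left _ h4).trans h2
  have hyb := S.B_bb hy
  have hyC : ∀ c ∈ C, y • c ∈ C := by
    intro c hc
    have h2 : y • c = (y • c * c) * c := by rw [mul_assoc, S.F.sq, mul_one]
    rw [h2]
    exact mul_mem (hVC (hyb.2 c)) hc
  have hyy : ∀ m : M, y • y • m = m := fun m => by
    have h2 : y * y = 1 := by
      apply S.F.faith
      intro m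
      have h3 := hyb.1 _ (hyb.2 m)
      rw [smul_mul', ← mul_smul] at h3
      have h4 : (y * y) • m = (y • m * m) * y • m := by
        rw [← h3, mul_assoc, S.F.sq, mul_one]
      rw [h4, S.F.mc (y • m) m, mul_assoc, S.F.sq, mul_one]
    rw [← mul_smul, h2, one_smul]
  -- generators
  have hgen : ∀ b ∈ cj g A, ∀ m : M, y • (b • m * m) * (b • m * m) ∈ (h * f) • g • (br A : Subgroup M) := by
    intro b hb m
    have hbb : ∀ m : M, b • b • m = m := fun m => by
      rw [← mul_smul, S.F.bb_sq (hAg b hb), one_smul]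
    have hbV : ∀ v ∈ h • U, b • v = v := (mem_KK.1 (h1 hb)).2
    have hkV : IsBB (h • U) (y * b * y * b) := by
      refine ⟨fun v hv => ?_, fun m => ?_⟩
      · rw [mul_smul, mul_smul, mul_smul, hbV v hv, hyb.1 v hv, hbV v hv, hyb.1 v hv]
      · have h2 : y • b • m = (y • b • m * b • m) * b • m := by rw [mul_assoc, S.F.sq, mul_one]
        have h3 : b • y • b • m = (y • b • m * b • m) * m := by
          rw [h2, smul_mul', hbV _ (hyb.2 _), hbb]
          rw [mul_assoc (y • b • m * b • m), S.F.sq, mul_one]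
        have h4 : (y * b * y * b) • m * m = (y • b • m * b • m) * (y • m * m) := by
          rw [mul_smul, mul_smul, mul_smul, h3, smul_mul', hyb.1 _ (hyb.2 _), mul_assoc]
        rw [h4]
        exact mul_mem (hyb.2 _) (hyb.2 _)
    have hkC : ∀ c ∈ C, (y * b * y * b) • c = c := by
      intro c hc
      rw [mul_smul, mul_smul, mul_smul, (hc b hb : b • c = c), (hyC c hc b hb : b • y • c = y • c), hyy]
    have hk : y * b * y * b ∈ cj (h * f) (cj g A) := by
      rw [mem_cj, ← hX, mem_KK]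
      refine ⟨?_, fun c hc => ?_⟩
      · have h2 := isBB_conj (h * f)⁻¹ hkV
        rw [inv_inv] at h2
        have h3 : (h * f)⁻¹ • h • U = U := by rw [S.f1_inv, S.f1_V]
        rwa [h3] at h2
      · rw [mul_smul, mul_smul]
        have h2 : (h * f) • c ∈ C := by
          rw [← hf1C]
          exact smul_mem_pointwise_smul _ _ _ hc
        rw [hkC _ h2, inv_smul_smul]
    have h5 := mem_br hk (b • y • m)
    rw [br_cj, br_cj] at h5
    have h6 : (y * b * y * b) • b • y • m = y • b • m := by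
      rw [mul_smul, mul_smul, mul_smul, hbb, hyy]
    rw [h6] at h5
    have h7 : y • (b • m * m) * (b • m * m) = y • b • m * b • y • m := by
      have h8 : b • y • m = (y • m * m) * b • m := by
        have h9 : y • m = (y • m * m) * m := by rw [mul_assoc, S.F.sq, mul_one]
        rw [h9, smul_mul', hbV _ (hyb.2 _)]
        rw [mul_assoc (y • m * m), S.F.sq, mul_one]
      rw [h8, smul_mul']
      simp only [mul_assoc]
      rw [S.F.mc (b • m) m]
    rw [h7]
    exact h5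
  -- all of `[M, A^g]`
  rw [← br_cj] at hr
  unfold br at hr
  induction hr using closure_induction with
  | mem x hx =>
    obtain ⟨b, hb, m, rfl⟩ := hx
    exact hgen b hb m
  | one => rw [smul_one, one_mul]; exact one_mem _
  | mul a b _ _ ha hb =>
    have h2 : y • (a * b) * (a * b) = (y • a * a) * (y • b * b) := by
      rw [smul_mul']
      simp only [mul_assoc]
      rw [ml S.F.sq a]
    rw [h2]
    exact mul_mem ha hb
  | inv a _ ha => rw [iv S.F.sq]; exact ha

end Sit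

end Cfsg.Agent.Omega.NO3S.OneS
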