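import Cfsg.Agent.Omega.NO3S.OneS.Line

/-!
# THEOREM INN_s (OMEGA, NO-3S MidQ, `s ≥ 4`; helper49): inner exact groups, FAT POINTS; K-free

`Inn lam U A` : `A ≤ C_H(U) ∩ C_H(M/U)`, and (***): a line vector `v` of `[M, A] lam` has `[U_v, A] = 1`.
`At lam U A A₁ f h` : an atom `A₁ ≤ A` with `f ∈ A₁`, `h`.
`At.fat` : `m^{s b'} = [m, s] d` is a line vector of `[M, A₁] lam` with `U_{m^{s b'}} = U`.  (No torus, no field.)
-/

set_option autoImplicit false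
set_option maxHeartbeats 400000

namespace Cfsg.Agent.Omega.NO3S.OneS

open Subgroup Cfsg.Agent.ClassTwoFusion.Quad Cfsg.Agent.Omega.NOThree.NoOver
open scoped Pointwise

variable {H : Type*} [Group H] {M : Type*} [Group M] [MulDistribMulAction H M]

theorem br_mono {A B : Subgroup H} (hAB : A ≤ B) : (br A : Subgroup M) ≤ br B := br_le fun _ ha m => mem_br (hAB ha) m

/-- the frame of an inner pair -/
structure Inn (H : Type*) [Group H] {M : Type*} [Group M] [MulDistribMulAction H M] (lam U : Subgroup M)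
    (A : Subgroup H) : Prop where
  F : Fr H lam U
  sym : ∀ g : H, g • lam ≠ lam → g • lam ⊓ U ≠ ⊥ → lam ≤ g • U
  bs : ∀ f : H, f * f = 1 → f ≠ 1 → ∃ h : H, h ≠ 1 ∧ Odd (orderOf h) ∧ f * h * f = h⁻¹
  hA : ∀ a ∈ A, IsBB U a
  cen : ∀ v ∈ br A ⊔ lam, v ≠ 1 → ∀ g : H, v ∈ g • lam → ∀ a ∈ A, ∀ u ∈ g • U, a • u = u

namespace Inn

variable {lam U : Subgroup M} {A : Subgroup H} (I : Inn H lam U A)
include I

/-- general (SYM) -/
theorem sym' {g k : H} (hne : g • lam ≠ k • lam) {x : M} (hx : x ∈ g • lam) (hx' : x ∈ k • U) (hx1 : x ≠ 1) :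
    k • lam ≤ g • U := by
  have h1 : (k⁻¹ * g) • lam ≠ lam := by
    intro h
    apply hne
    rw [mul_smul, inv_smul_eq_iff] at h
    exact h
  have h2 : (k⁻¹ * g) • lam ⊓ U ≠ ⊥ := by
    refine ne_bot_iff'.2 ⟨k⁻¹ • x, ⟨?_, ?_⟩, ?_⟩
    · rw [mul_smul]
      exact smul_mem_pointwise_smul _ _ _ hx
    · have := smul_mem_pointwise_smul x k⁻¹ _ hx'
      rwa [inv_smul_smul] at this
    · intro hc
      apply hx1
      rw [inv_smul_eq_iff, smul_one] at hc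
      exact hc
  have h3 := smul_mono_right k (I.sym _ h1 h2)
  rwa [← mul_smul, mul_inv_cancel_left] at h3

/-- the situation for an atom -/
theorem sit {A₁ : Subgroup H} (hle : A₁ ≤ A) (hex : fo M A₁ = Nat.card M)
    (hmin : ∀ X ≤ A₁, X ≠ ⊥ → X ≠ A₁ → fo M X < Nat.card M) {f h : H} (hf : f ∈ A₁) (h1 : h ≠ 1)
    (hodd : Odd (orderOf h)) (hinv : f * h * f = h⁻¹) : Sit lam U A₁ f h := by
  have hfb := I.hA f (hle hf)
  have hmov := I.F.moves hfb h1 hodd hinv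
  refine ⟨I.F, fun a ha => I.hA a (hle ha), hex, hmin, hf, hodd, hinv, hmov, ?_⟩
  rintro v hv hvs ⟨hv1, g, hg⟩
  have hvA : v ∈ br A ⊔ lam := sup_le_sup_right (br_mono hle) lam hvs
  have h2 := I.cen v hvA hv1 g hg f (hle hf)
  by_cases hgh : g • lam = h • lam
  · -- `v ∈ μ ∩ D = 1`
    have h3 := I.F.h_mem_aux hodd hinv (MulAction.stabilizer H v)
      (MulAction.mem_stabilizer_iff.2 (hfb.1 _ hv.1)) (MulAction.mem_stabilizer_iff.2 ((isBB_conj h hfb).1 _ hv.2))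
    rw [MulAction.mem_stabilizer_iff] at h3
    have h4 : v ∈ lam := by
      rw [hgh, mem_pointwise_smul_iff_inv_smul_mem, inv_smul_eq_iff.2 h3.symm] at hg
      exact hg
    have h5 : h • lam ⊓ lam ≠ ⊥ := ne_bot_iff'.2 ⟨v, ⟨hgh ▸ hg, h4⟩, hv1⟩
    apply hmov
    rw [I.F.ti _ h5, smul_eq_of_fix fun x hx => hfb.1 x (I.F.le hx)]
  · have h3 := I.sym' hgh hg hv.2 hv1
    exact hmov (smul_eq_of_fix fun x hx => h2 x (h3 hx))

end Inn

namespace Sit

variable {lam U : Subgroup M} {A : Subgroup H} {f h : H} (S : Sit lam U A f h)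
include S

/-- `C_M(f) = C_M(A)` -/
theorem cv_f [Finite H] [Finite M] {m : M} (hm : f • m = m) : m ∈ cv M (A : Set H) := by
  obtain ⟨z, hz, hz1⟩ := S.exists_mu
  set X := (im S.F.sq S.hA z).range with hX
  have h1 := card_im S.F.sq S.hA z
  rw [(S.key hz hz1).1, card_bot, mul_one, ← hX] at h1
  have hYc : (h * f) • X ⊓ cv M ({f} : Set H) = ⊥ := by
    rw [eq_bot_iff_forall]
    rintro y ⟨⟨x, hx, rfl⟩, hy⟩
    change (h * f) • x ∈ _ at hy
    change (h * f) • x = 1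
    obtain ⟨b, hb, rfl⟩ := mem_im.1 hx
    have h2 := S.cvf (S.f1_mem_V ((S.hA b hb).2 z)) (mem_cv_singleton.1 hy)
    have h3 := S.f1_D h2
    rw [S.f1_f1] at h3
    rw [← h3] at h2
    rw [S.i1 S.hA S.wdA hb hz h2, S.F.sq, smul_one]
  have h2 := card_mul_le ((h * f) • X) (cv M ({f} : Set H)) ⊤ le_top le_top
  rw [hYc, card_bot, one_mul, card_smul_eq, h1, card_top, ← S.hex] at h2
  unfold fo at h2
  have h3 := Nat.le_of_mul_le_mul_left h2 Nat.card_pos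
  have h4 : cv M (A : Set H) ≤ cv M ({f} : Set H) := cv_anti (Set.singleton_subset_iff.2 S.hf)
  rw [eq_of_le_of_card_ge h4 h3]
  exact mem_cv_singleton.2 hm

end Sit

/-- an atom of `A` -/
structure At (lam U : Subgroup M) (A A₁ : Subgroup H) (f h : H) : Prop where
  I : Inn H lam U A
  le : A₁ ≤ A
  S : Sit lam U A₁ f h

namespace At

variable {lam U : Subgroup M} {A A₁ : Subgroup H} {f h : H} (Q : At lam U A A₁ f h)
include Q

theorem two_V {y : H} (hy : IsBB (h • U) y) {g : H} (hg : y • g • lam = g • lam) {v : M} (hv : v ∈ g • lam) :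
    y • v = v := by
  have h1 := isBB_conj (h * f)⁻¹ hy
  rw [inv_inv] at h1
  have h2 : (h * f)⁻¹ • h • U = U := by rw [Q.S.f1_inv, Q.S.f1_V]
  rw [h2] at h1
  have h3 : ((h * f)⁻¹ * y * (h * f)) • ((h * f)⁻¹ * g) • lam = ((h * f)⁻¹ * g) • lam := by
    rw [← mul_smul]
    have : (h * f)⁻¹ * y * (h * f) * ((h * f)⁻¹ * g) = (h * f)⁻¹ * (y * g) := by group
    rw [this, mul_smul, mul_smul, hg, ← mul_smul]
  have h4 := Q.I.F.two _ h1 _ h3 ((h * f)⁻¹ • v) (by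
    rw [mul_smul]
    exact smul_mem_pointwise_smul _ _ _ hv)
  rw [mul_smul, mul_smul, smul_inv_smul] at h4
  exact smul_left_cancel _ h4

variable [Finite H] [Finite M]

theorem cv_eq {a : H} (ha : a ∈ A₁) (ha1 : a ≠ 1) {m : M} (hm : a • m = m) : m ∈ cv M (A₁ : Set H) := by
  obtain ⟨k, hk1, hko, hki⟩ := Q.I.bs a (Q.S.F.bb_sq (Q.S.hA a ha)) ha1
  exact (Q.I.sit Q.le Q.S.hex Q.S.hmin ha hk1 hko hki).cv_f hm

theorem mem_D_of_fix {a : H} (ha : a ∈ A₁) (ha1 : a ≠ 1) {v : M} (hv : v ∈ h • U) (hav : a • v = v) :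
    v ∈ U ⊓ h • U := Q.S.cvf hv (Q.cv_eq ha ha1 hav f Q.S.hf)

theorem mem_D_of_fix' {y : H} (hy : y ∈ cj (h * f) A₁) (hy1 : y ≠ 1) {u : M} (hu : u ∈ U) (hyu : y • u = u) :
    u ∈ U ⊓ h • U := by
  have h1 : (h * f) * y * (h * f) ≠ 1 := by
    intro hc
    apply hy1
    have h2 : y = (h * f)⁻¹ * ((h * f) * y * (h * f)) * (h * f)⁻¹ := by group
    rw [h2, hc, mul_one, ← mul_inv_rev, Q.S.f1_sq, inv_one]
  have h2 : ((h * f) * y * (h * f)) • (h * f) • u = (h * f) • u := by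
    rw [mul_smul, mul_smul, Q.S.f1_f1, hyu]
  have h3 := Q.mem_D_of_fix (Q.S.f1_cj' hy) h1 (Q.S.f1_mem_V hu) h2
  have h4 := Q.S.f1_D h3
  rw [Q.S.f1_f1] at h4
  rw [← h4] at h3
  exact h3

omit [Finite H] [Finite M] in
theorem cenB {v : M} (hv : v ∈ br (cj (h * f) A₁)) (hv1 : v ≠ 1) {g : H} (hg : v ∈ g • lam) {y : H}
    (hy : y ∈ cj (h * f) A₁) {u : M} (hu : u ∈ g • U) : y • u = u := by
  rw [br_cj] at hv
  have h1 : (h * f) • v ∈ br A₁ := by
    have := smul_mem_pointwise_smul v (h * f) _ hv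
    rwa [← mul_smul, Q.S.f1_sq, one_smul] at this
  have h2 : (h * f) • v ∈ ((h * f) * g) • lam := by
    rw [mul_smul]
    exact smul_mem_pointwise_smul _ _ _ hg
  have h3 : (h * f) • u ∈ ((h * f) * g) • U := by
    rw [mul_smul]
    exact smul_mem_pointwise_smul _ _ _ hu
  have h4 := Q.I.cen _ (mem_sup_left (br_mono Q.le h1)) (Q.S.f1_ne hv1) _ h2 _ (Q.le (Q.S.f1_cj' hy)) _ h3
  rw [mul_smul, mul_smul, Q.S.f1_f1] at h4
  exact smul_left_cancel _ h4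

/-- (1) : `[u, y] ∉ D` for `u ∈ U - D`, `1 ≠ y ∈ B` -/
theorem bij {u : M} (hu : u ∈ U) {y : H} (hy : y ∈ cj (h * f) A₁) (hy1 : y ≠ 1) (hd : y • u * u ∈ U ⊓ h • U) :
    u ∈ U ⊓ h • U := by
  apply Q.mem_D_of_fix' hy hy1 hu
  obtain ⟨z, hz, hz1⟩ := Q.S.exists_mu
  obtain ⟨a, ha, d, hdD, rfl⟩ := Q.S.r1 hz hz1 hu
  have hyb := Q.S.B_bb hy
  have hyd : y • d = d := hyb.1 d hdD.2
  have hyz : y • z = z := hyb.1 z (Q.S.mu_le hz)
  have hab := Q.S.hA a ha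
  have e1 : y • ((a • z * z) * d) * ((a • z * z) * d) = y • a • z * a • z := by
    rw [phi_mul Q.S.F.sq, hyd, Q.S.F.sq, mul_one, phi_mul Q.S.F.sq, hyz, Q.S.F.sq, mul_one]
  rw [e1] at hd
  set v := y • a • z * a • z with hv
  by_cases hv1 : v = 1
  · rw [smul_mul', smul_mul', hyd, hyz, eqm Q.S.F.sq hv1]
  exfalso
  have h1 : a • z ∈ (a * h) • lam := by
    rw [mul_smul]
    exact smul_mem_pointwise_smul _ _ _ hz
  have h2 : y • a • z ∈ (y * (a * h)) • lam := by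
    rw [mul_smul]
    exact smul_mem_pointwise_smul _ _ _ h1
  have haU : (a * h) • lam ≤ (a * h) • U := smul_mono_right _ Q.S.F.le
  have hvU : v ∈ (a * h) • U := by
    rw [mul_smul, ← hab.1 v hd.1]
    exact smul_mem_pointwise_smul _ _ _ hd.2
  have h3 : y • a • z = v * a • z := by rw [hv, mul_assoc, Q.S.F.sq, mul_one]
  have h4 : y • a • z ∈ (a * h) • U := by
    rw [h3]
    exact mul_mem hvU (haU h1)
  have haz1 : a • z ≠ 1 := by
    intro hc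
    apply hz1
    rw [smul_eq_iff_eq_inv_smul, smul_one] at hc
    exact hc
  have hyaz1 : y • a • z ≠ 1 := by
    intro hc
    apply haz1
    rw [smul_eq_iff_eq_inv_smul, smul_one] at hc
    exact hc
  have hnot : (y * (a * h)) • lam ≠ (a * h) • lam := by
    intro hc
    apply hv1
    rw [mul_smul] at hc
    rw [hv, Q.two_V hyb hc h1, Q.S.F.sq]
  obtain ⟨-, g, hg⟩ := Q.S.F.coll' hnot h2 h4 hyaz1 (mul_mem (mem_sup_left h2) (mem_sup_right h1)) hv1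
  have hvB : v ∈ br (cj (h * f) A₁) := mem_br hy _
  by_cases hgg : g • lam = (a * h) • lam
  · apply hnot
    apply Q.S.F.ti'
    refine ne_bot_iff'.2 ⟨y • a • z, ⟨h2, ?_⟩, hyaz1⟩
    rw [h3]
    exact mul_mem (hgg ▸ hg) h1
  · have h5 := Q.I.sym' hgg hg hvU hv1
    have h6 := Q.cenB hvB hv1 hg hy (h5 h1)
    apply hv1
    rw [hv, h6, Q.S.F.sq]

/-- `y ↦ [u, y]` is onto `V/D` for `u ∈ U - D` -/
theorem onto {u : M} (hu : u ∈ U) (huD : u ∉ U ⊓ h • U) {v : M} (hv : v ∈ h • U) :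
    ∃ y ∈ cj (h * f) A₁, ∃ d ∈ U ⊓ h • U, v = (y • u * u) * d := by
  have hB : ∀ y ∈ cj (h * f) A₁, IsBB (h • U) y := fun y hy => Q.S.B_bb hy
  set X := (im Q.S.F.sq hB u).range with hX
  have h1 := card_im Q.S.F.sq hB u
  have h2 : cj (h * f) A₁ ⊓ MulAction.stabilizer H u = ⊥ := by
    rw [eq_bot_iff_forall]
    rintro y ⟨hy, hy'⟩
    by_contra hy1
    exact huD (Q.mem_D_of_fix' hy hy1 hu (MulAction.mem_stabilizer_iff.1 hy'))
  rw [h2, card_bot, mul_one, ← hX] at h1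
  have h3 : X ⊓ (U ⊓ h • U) = ⊥ := by
    rw [eq_bot_iff_forall]
    rintro x ⟨hx, hx'⟩
    obtain ⟨y, hy, rfl⟩ := mem_im.1 hx
    by_cases hy1 : y = 1
    · rw [hy1, one_smul, Q.S.F.sq]
    · exact absurd (Q.bij hu hy hy1 hx') huD
  have h4 := Q.S.card_supM X (U ⊓ h • U)
  rw [h3, card_bot, mul_one, h1] at h4
  obtain ⟨l, hl, hl1⟩ := Q.S.F.exists_ne
  have h5 : (h • U : Subgroup M) ≤ (im Q.S.F.sq hB l).range ⊔ (U ⊓ h • U) := by
    intro w hw
    obtain ⟨b, hb, d, hd, rfl⟩ := Q.S.r2 hl hl1 hw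
    exact mul_mem (mem_sup_left (mem_im.2 ⟨b, hb, rfl⟩)) (mem_sup_right hd)
  have h6 : Nat.card (h • U : Subgroup M) ≤ Nat.card (cj (h * f) A₁) * Nat.card (U ⊓ h • U : Subgroup M) := by
    have h7 := Q.S.card_supM (im Q.S.F.sq hB l).range (U ⊓ h • U)
    have h8 := card_im Q.S.F.sq hB l
    have h9 := Subgroup.card_le_of_le h5
    have h10 : 0 < Nat.card ((im Q.S.F.sq hB l).range ⊓ (U ⊓ h • U) : Subgroup M) := Nat.card_pos
    have h11 : Nat.card ((im Q.S.F.sq hB l).range ⊔ (U ⊓ h • U) : Subgroup M) ≤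
        Nat.card (im Q.S.F.sq hB l).range * Nat.card (U ⊓ h • U : Subgroup M) := by
      rw [← h7]
      exact Nat.le_mul_of_pos_right _ h10
    refine h9.trans (h11.trans (Nat.mul_le_mul_right _ ?_))
    rw [← h8]
    exact Nat.le_mul_of_pos_right _ Nat.card_pos
  have h7 : X ⊔ (U ⊓ h • U) ≤ h • U := by
    refine sup_le ?_ inf_le_right
    intro x hx
    obtain ⟨y, hy, rfl⟩ := mem_im.1 hx
    exact (hB y hy).2 u
  have h8 : X ⊔ (U ⊓ h • U) = h • U := eq_of_le_of_card_ge h7 (h6.trans h4.ge)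
  rw [← h8] at hv
  obtain ⟨x, hx, d, hd, rfl⟩ := (mem_sup' Q.S.F.sq).1 hv
  obtain ⟨y, hy, rfl⟩ := mem_im.1 hx
  exact ⟨y, hy, d, hd, rfl⟩

/-- (2) FAT POINTS -/
theorem fat {s : H} (hs : s ∈ A₁) (hs1 : s ≠ 1) {z : M} (hz : z ∈ h • lam) (hz1 : z ≠ 1) :
    ∃ b ∈ cj (h * f) A₁, ∃ d ∈ U ⊓ h • U, (b * s) • z = (s • z * z) * d ∧ (b * s) • h • U = U ∧
      (s • z * z) * d ∈ br A₁ ⊔ lam ∧ (s • z * z) * d ≠ 1 := by
  have hsb := Q.S.hA s hs
  set u := s • z * z with hu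
  have huU : u ∈ U := hsb.2 z
  have huD : u ∉ U ⊓ h • U := fun hc => hs1 (Q.S.eq_one_of hz hz1 hs (Q.S.i1 Q.S.hA Q.S.wdA hs hz hc))
  obtain ⟨b, hb, d, hd, e⟩ := Q.onto huU huD (Q.S.mu_le hz)
  have hbb := Q.S.B_bb hb
  have h1 : (b * s) • z = u * d := by
    have h2 : s • z = u * z := by rw [hu, mul_assoc, Q.S.F.sq, mul_one]
    rw [mul_smul, h2, smul_mul', hbb.1 z (Q.S.mu_le hz)]
    have h3 : b • u = (b • u * u) * u := by rw [mul_assoc, Q.S.F.sq, mul_one]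
    have h4 : b • u * u = z * d := by
      have h5 : z * d = (b • u * u) * d * d := by rw [← e]
      rw [h5, mul_assoc (b • u * u), Q.S.F.sq, mul_one]
    rw [h3, h4, Q.S.F.mc (z * d * u) z, mul_assoc z d u, aa Q.S.F.sq, Q.S.F.mc d u]
  have hdB : d ∈ br (cj (h * f) A₁) ⊔ h • lam := by
    have h2 : d = (b • u * u) * z := by rw [e, aa Q.S.F.sq]
    rw [h2]
    exact mul_mem (mem_sup_left (mem_br hb u)) (mem_sup_right hz)
  have hdA : d ∈ br A₁ ⊔ lam := by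
    rw [br_cj] at hdB
    have := smul_mem_pointwise_smul d (h * f) _ hdB
    rwa [smul_sup, ← mul_smul, Q.S.f1_sq, one_smul, Q.S.f1_D hd, Q.S.f1_mu] at this
  have h2 : u * d ∈ br A₁ ⊔ lam := mul_mem (mem_sup_left (mem_br hs z)) hdA
  have h3 : u * d ≠ 1 := fun hc => huD (by rw [eqm Q.S.F.sq hc]; exact hd)
  have h4 : u * d ∈ ((b * s) * h) • lam := by
    rw [← h1, mul_smul (b * s) h]
    exact smul_mem_pointwise_smul _ _ _ hz
  have h5 := Q.I.cen _ (sup_le_sup_right (br_mono Q.le) lam h2) h3 _ h4 f (Q.le Q.S.hf)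
  refine ⟨b, hb, d, hd, h1, ?_, h2, h3⟩
  refine eq_of_le_of_card_ge ?_ ?_
  · rintro _ ⟨w, hw, rfl⟩
    change (b * s) • w ∈ U
    set u₁ := s • w * w with hu₁
    have hu₁U : u₁ ∈ U := hsb.2 w
    have h6 : (b * s) • w = u₁ * ((b • u₁ * u₁) * w) := by
      have h7 : s • w = u₁ * w := by rw [hu₁, mul_assoc, Q.S.F.sq, mul_one]
      rw [mul_smul, h7, smul_mul', hbb.1 w hw, Q.S.F.mc (b • u₁) u₁]
      simp only [mul_assoc]
      rw [aa Q.S.F.sq]
    have h7 : f • (b * s) • w = (b * s) • w := by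
      apply h5
      rw [mul_smul (b * s) h]
      exact smul_mem_pointwise_smul _ _ _ hw
    rw [h6, smul_mul', Q.S.f_fix hu₁U] at h7
    have h8 := Q.S.cvf (mul_mem (hbb.2 u₁) hw) (mul_left_cancel h7)
    rw [h6]
    exact mul_mem hu₁U h8.1
  · rw [card_smul_eq, card_smul_eq]

end At

end Cfsg.Agent.Omega.NO3S.OneS
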