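import Cfsg.Agent.Omega.NO3S.OneS.Fat
import Cfsg.Agent.Omega.NOThree.LL.OrbSum

/-!
# THEOREM SUM (OMEGA, NO-3S; helper244) over the frame of THEOREM ONE_s; K-free

`Sit.exists_line_of_reg` : `A` with `C_M(a) = C_M(A)` for `1 ≠ a ∈ A`, `|A| ≥ 4` ⟹ `[M, A]` contains a line vector.
-/

set_option autoImplicit false
set_option maxHeartbeats 400000

namespace Cfsg.Agent.Omega.NO3S.OneS

open Subgroup Cfsg.Agent.ClassTwoFusion.Quad Cfsg.Agent.Omega.NOThree.NoOver
open scoped Pointwise

variable {H : Type*} [Group H] {M : Type*} [Group M] [MulDistribMulAction H M]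

omit [Group H] [MulDistribMulAction H M] in
/-- the additive group -/
@[reducible] def addGrp (sq : ∀ m : M, m * m = 1) : AddCommGroup (Additive M) :=
  { (inferInstance : AddGroup (Additive M)) with
    add_comm := fun a b => congrArg Additive.ofMul (OneS.mc sq a.toMul b.toMul) }

/-- the additive action -/
@[reducible] def addAct (H : Type*) [Group H] {M : Type*} [Group M] [MulDistribMulAction H M]
    (sq : ∀ m : M, m * m = 1) : @DistribMulAction H (Additive M) _ (addGrp sq).toAddMonoid :=
  letI := addGrp sq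
  { smul := fun h m => Additive.ofMul (h • m.toMul)
    one_smul := fun m => by change Additive.ofMul ((1 : H) • m.toMul) = m; rw [one_smul]; rfl
    mul_smul := fun a b m => by
      change Additive.ofMul ((a * b) • m.toMul) = Additive.ofMul (a • (b • m.toMul))
      rw [mul_smul]
    smul_zero := fun a => by change Additive.ofMul (a • (1 : M)) = 0; rw [smul_one]; rfl
    smul_add := fun a m n => by
      change Additive.ofMul (a • (m.toMul * n.toMul)) = Additive.ofMul (a • m.toMul * (a • n.toMul))
      rw [smul_mul'] }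

namespace Sit

variable {lam U : Subgroup M} {A : Subgroup H} {f h : H} (S : Sit lam U A f h)
include S

/-- **THEOREM SUM** -/
theorem exists_line_of_reg [Finite H] [Finite M] (hreg : ∀ a ∈ A, a ≠ 1 → ∀ m : M, a • m = m → m ∈ cv M (A : Set H))
    (h4 : 4 ≤ Nat.card A) : ∃ v ∈ br A, v ∈ Lam H lam := by
  letI : AddCommGroup (Additive M) := addGrp S.F.sq
  letI : DistribMulAction H (Additive M) := addAct H S.F.sq
  let U' : AddSubgroup (Additive M) := Subgroup.toAddSubgroup U
  let L' : AddSubgroup (Additive M) := Subgroup.toAddSubgroup lam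
  have two : ∀ m : Additive M, m + m = 0 := fun m => S.F.sq m.toMul
  have hneg : ∀ m : M, -(Additive.ofMul m) = Additive.ofMul m := fun m => congrArg Additive.ofMul (OneS.iv S.F.sq m)
  have hBb : A ≤ NOThree.LL.One.bb U' := fun b hb => ⟨fun u hu => (S.hA b hb).1 u hu, fun m => by
    have h1 := (S.hA b hb).2 m.toMul
    have h2 : b • m - m = Additive.ofMul (b • m.toMul * m.toMul) := by
      rw [sub_eq_add_neg]
      have := hneg m.toMul
      exact congrArg (fun x => Additive.ofMul (b • m.toMul) + x) this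
    rw [h2]
    exact h1⟩
  obtain ⟨a, ha, ha1⟩ := S.F.exists_ne
  have big : ∀ v : Additive M, v ∉ NOThree.LL.One.cv (Additive M) A →
      4 ≤ Nat.card (NOThree.LL.One.cs U' v A hBb) := by
    intro v hv
    have h1 := NOThree.LL.One.card_cs (m := v) hBb
    have h2 : NOThree.LL.One.ca v A = ⊥ := by
      rw [eq_bot_iff_forall]
      intro c hc
      by_contra hc1
      exact hv fun b hb => hreg c hc.1 hc1 v.toMul hc.2 b hb
    rw [h2, Subgroup.card_bot, one_mul] at h1
    rw [← h1]
    exact h4
  have hmov : h • a ≠ a := by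
    intro hc
    have h1 : h • lam ⊓ lam ≠ ⊥ := ne_bot_iff'.2 ⟨a, ⟨by
      have := smul_mem_pointwise_smul a h _ ha
      rwa [hc] at this, ha⟩, ha1⟩
    exact S.lam_ne (S.F.ti _ h1).symm
  have hmain := NOThree.LL.OrbSum.sum_main (H := H) (M := Additive M) two
    (Lam := {x : Additive M | x.toMul ∈ Lam H lam}) (U := U') (L := L')
    (lam := Additive.ofMul a) (A := A) (f := f) (h := h)
    ⟨ha1, 1, by rw [one_smul]; exact ha⟩ (S.F.le ha)
    (by
      rintro g v ⟨hv1, k, hk⟩
      refine ⟨?_, g * k, ?_⟩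
      · intro hc
        apply hv1
        change g • v.toMul = 1 at hc
        rwa [smul_eq_iff_eq_inv_smul, smul_one] at hc
      · rw [mul_smul]
        exact smul_mem_pointwise_smul _ _ _ hk)
    (fun r hr hr0 => ⟨hr0, 1, by rw [one_smul]; exact hr⟩)
    (by
      rintro v hv ⟨hv1, k, hk⟩ hvL
      have h1 : k • lam ≠ lam := fun hc => hvL (by
        change v.toMul ∈ lam
        rw [← hc]
        exact hk)
      have h2 : v.toMul * a ≠ 1 := fun hc => hvL (by
        change v.toMul ∈ lam
        rw [eqm S.F.sq hc]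
        exact ha)
      exact S.F.coll k h1 (ne_bot_iff'.2 ⟨v.toMul, ⟨hk, hv⟩, hv1⟩) _ (mul_mem (mem_sup_left hk) (mem_sup_right ha)) h2)
    ha hBb big S.hf (by rw [inv_eq_of_mul_eq_one_right S.ff]; exact S.hinv) S.hodd hmov
    (fun u hu h1 => by
      have h2 := S.h_fix (smul_mem_pointwise_smul u.toMul h _ hu) h1
      exact smul_left_cancel h h2)
  obtain ⟨r, hr, hr0, hrL⟩ := hmain
  refine ⟨r.toMul, ?_, hrL⟩
  have h9 : NOThree.LL.One.cm (Additive M) A ≤ Subgroup.toAddSubgroup (br A) :=
    NOThree.LL.One.cm_le fun c hc m => by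
      have h2 : c • m - m = Additive.ofMul (c • m.toMul * m.toMul) := by
        rw [sub_eq_add_neg]
        exact congrArg (fun x => Additive.ofMul (c • m.toMul) + x) (hneg m.toMul)
      rw [h2]
      exact mem_br hc m.toMul
  exact h9 hr

end Sit

end Cfsg.Agent.Omega.NO3S.OneS
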