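import Cfsg.Agent.Omega.NO3S.OneS.Atom
import Cfsg.Agent.Omega.NO3S.OneS.SumS
import Cfsg.Agent.PLocal.OffenderStep

/-!
# THEOREM INN_s (OMEGA, NO-3S MidQ, `s ≥ 4`; helper49, end by helper426); K-free, no torus, no field

`Inn.br_le_of_inv` : `A` exact, invariant under `J` (a 2-group inducing all `u ↦ u + φ(u)` on `U`), (***), (T)
⟹ `[M, A] ≤ lam`.  `Inn.br_le_lam` : the same without the invariance.
-/

set_option autoImplicit false
set_option maxHeartbeats 400000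

namespace Cfsg.Agent.Omega.NO3S.OneS

open Subgroup Cfsg.Agent.ClassTwoFusion.Quad Cfsg.Agent.Omega.NOThree.NoOver
open scoped Pointwise

variable {H : Type*} [Group H] {M : Type*} [Group M] [MulDistribMulAction H M]

/-- `m ↦ [m, s]` -/
def dh (sq : ∀ m : M, m * m = 1) (s : H) : M →* M where
  toFun m := s • m * m
  map_one' := by rw [smul_one, one_mul]
  map_mul' a b := phi_mul sq s a b

theorem mem_dh {sq : ∀ m : M, m * m = 1} {s : H} {x : M} : x ∈ (dh sq s).range ↔ ∃ m : M, x = s • m * m := by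
  constructor
  · rintro ⟨m, hm⟩
    exact ⟨m, hm.symm⟩
  · rintro ⟨m, hm⟩
    exact ⟨m, hm.symm⟩

/-- (F2') : a 2-group `J` -/
structure JJ (J : Subgroup H) (lam U : Subgroup M) : Prop where
  p2 : IsPGroup 2 J
  fx : ∀ k ∈ J, ∀ z ∈ lam, k • z = z
  cl : ∀ k ∈ J, ∀ u ∈ U, k • u * u ∈ lam
  on : ∀ u ∈ U, u ∉ lam → ∀ z ∈ lam, ∃ k ∈ J, k • u = u * z

theorem JJ.semi {J : Subgroup H} {lam U : Subgroup M} (j : JJ J lam U) {k : H} (hk : k ∈ J) : Semi lam U k :=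
  ⟨smul_eq_of_fix (j.fx k hk), j.cl k hk⟩

namespace At

variable {lam U : Subgroup M} {A A₁ : Subgroup H} {f h : H} (Q : At lam U A A₁ f h) [Finite H] [Finite M]
include Q

/-- (5') : there is a second atom `A₃` centralising `V` : `|[M, A₁]| ≤ s`, `[M, A₁] ≤ [M, A₃]` -/
theorem br_le_of_fix (hT : FattS lam U A) {A₃ : Subgroup H} {f₃ h₃ : H} (Q₃ : At lam U A A₃ f₃ h₃)
    (h3V : ∀ b ∈ A₃, ∀ v ∈ h • U, b • v = v) :
    (br A₁ : Subgroup M) ≤ br A₃ ∧ Nat.card (br A₁ : Subgroup M) ≤ Nat.card lam := by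
  have S := Q.S
  have h3b : ∀ b ∈ A₃, IsBB U b := fun b hb => Q₃.S.hA b hb
  have h3c : Nat.card A₃ = Nat.card lam := Q₃.card_A hT
  have h3ff : ∀ b ∈ A₃, b * b = 1 := fun b hb => S.F.bb_sq (h3b b hb)
  -- `m ∈ M`, `b ∈ A₃` with `[m, b] ∉ D`
  obtain ⟨m, b₀, hb₀, hu₀⟩ : ∃ m : M, ∃ b₀ ∈ A₃, b₀ • m * m ∉ U ⊓ h • U := by
    by_contra hcon
    push Not at hcon
    have h1 : (br A₃ : Subgroup M) ≤ U ⊓ h • U := br_le fun b hb m => hcon m b hb
    obtain ⟨v, hv, hvL⟩ := Q₃.S.exists_line_of_reg (fun a ha ha1 m hm => Q₃.cv_eq ha ha1 hm) (by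
      rw [h3c]
      exact S.F.four)
    exact Q.wdX Q₃.le v (h1 hv) hv hvL
  -- `Y = [m, A₃] [m, A₃^f₁]`
  set Y₁ := (im S.F.sq h3b m).range with hY₁
  have hVb : ∀ y ∈ cj (h * f) A₃, IsBB (h • U) y := by
    intro y hy
    rw [mem_cj] at hy
    have h1 := isBB_conj (h * f) (h3b _ hy)
    rw [S.f1_U] at h1
    have h2 : (h * f) * ((h * f)⁻¹ * y * (h * f)) * (h * f)⁻¹ = y := by group
    rwa [h2] at h1
  set Y₂ := (im S.F.sq hVb m).range with hY₂
  have hY₂f : ∀ x ∈ Y₂, ∃ b ∈ A₃, x = (h * f) • (b • ((h * f) • m) * ((h * f) • m)) := by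
    intro x hx
    obtain ⟨y, hy, rfl⟩ := mem_im.1 hx
    rw [mem_cj, S.f1_inv] at hy
    refine ⟨_, hy, ?_⟩
    rw [S.f1_im, S.f1_f1]
    congr 2
    have : (h * f) * ((h * f) * y * (h * f)) * (h * f) = ((h * f) * (h * f)) * y * ((h * f) * (h * f)) := by group
    rw [this, S.f1_sq, one_mul, mul_one]
  have hY₂m : ∀ b ∈ A₃, (h * f) • (b • ((h * f) • m) * ((h * f) • m)) ∈ Y₂ := by
    intro b hb
    refine mem_im.2 ⟨(h * f) * b * (h * f), ?_, ?_⟩
    · rw [mem_cj]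
      have : (h * f)⁻¹ * ((h * f) * b * (h * f)) * (h * f) = b * ((h * f) * (h * f)) := by group
      rw [this, S.f1_sq, mul_one]
      exact hb
    · rw [S.f1_im, S.f1_f1]
  have hc1 : Nat.card Y₁ ≤ Nat.card lam := by
    rw [← h3c, ← card_im S.F.sq h3b m]
    exact Nat.le_mul_of_pos_right _ Nat.card_pos
  have hc2 : Nat.card Y₂ ≤ Nat.card lam := by
    rw [← h3c, ← card_cj (h * f) A₃, ← card_im S.F.sq hVb m]
    exact Nat.le_mul_of_pos_right _ Nat.card_pos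
  have hY₁U : Y₁ ≤ U := by
    intro x hx
    obtain ⟨b, hb, rfl⟩ := mem_im.1 hx
    exact (h3b b hb).2 m
  have hY₂V : Y₂ ≤ h • U := by
    intro x hx
    obtain ⟨b, hb, rfl⟩ := mem_im.1 hx
    exact (hVb b hb).2 m
  -- `[[m, b], y] ∈ Y₂`
  have hyY : ∀ b ∈ A₃, ∀ y ∈ cj (h * f) A₁, y • (b • m * m) * (b • m * m) ∈ Y₂ := by
    intro b hb y hy
    obtain ⟨h1, h2⟩ := Q.comm h3b (Q₃.S.hex) h3V hb hy
    exact mem_im.2 ⟨_, h1, h2 m⟩
  -- `[[m, z], a] ∈ Y₁`, `z ∈ A₃^f₁`, `a ∈ A₁`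
  have haY : ∀ x ∈ Y₂, ∀ a ∈ A₁, a • x * x ∈ Y₁ := by
    intro x hx a ha
    obtain ⟨b, hb, rfl⟩ := hY₂f x hx
    obtain ⟨h1, h2⟩ := Q.comm h3b (Q₃.S.hex) h3V hb (S.f1_cj ha)
    have h3 := h2 ((h * f) • m)
    have h4 : a • (h * f) • (b • ((h * f) • m) * ((h * f) • m)) * (h * f) • (b • ((h * f) • m) * ((h * f) • m)) =
        (h * f) • (((h * f) * a * (h * f)) • (b • ((h * f) • m) * ((h * f) • m)) *
          (b • ((h * f) • m) * ((h * f) • m))) := by
      rw [smul_mul' (h * f) (((h * f) * a * (h * f)) • _), mul_smul ((h * f) * a), mul_smul (h * f) a,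
        S.f1_f1]
    rw [h4, h3]
    rw [mem_cj, S.f1_inv] at h1
    refine mem_im.2 ⟨_, h1, ?_⟩
    set κ := (h * f) * a * (h * f) * b * ((h * f) * a * (h * f)) * b with hκ
    rw [smul_mul', S.f1_f1, mul_smul ((h * f) * κ), mul_smul (h * f) κ]
  -- `[u₀, B]`
  set u₀ := b₀ • m * m with hu₀'
  have hu₀U : u₀ ∈ U := (h3b b₀ hb₀).2 m
  have hBb : ∀ y ∈ cj (h * f) A₁, IsBB (h • U) y := fun y hy => S.B_bb hy
  set X := (im S.F.sq hBb u₀).range with hX
  have hXY : X ≤ Y₂ := by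
    intro x hx
    obtain ⟨y, hy, rfl⟩ := mem_im.1 hx
    exact hyY b₀ hb₀ y hy
  have hXc : Nat.card X = Nat.card lam := by
    have h1 := card_im S.F.sq hBb u₀
    have h2 : cj (h * f) A₁ ⊓ MulAction.stabilizer H u₀ = ⊥ := by
      rw [eq_bot_iff_forall]
      rintro y ⟨hy, hy'⟩
      by_contra hy1
      exact hu₀ (Q.mem_D_of_fix' hy hy1 hu₀U (MulAction.mem_stabilizer_iff.1 hy'))
    rw [h2, card_bot, mul_one, ← hX] at h1
    rw [h1, card_cj, Q.card_A hT]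
  have hXe : X = Y₂ := eq_of_le_of_card_ge hXY (by rw [hXc]; exact hc2)
  -- `[M, A₁] ≤ Y₁`
  have hR : (br A₁ : Subgroup M) ≤ Y₁ := by
    refine br_le fun a ha x => ?_
    obtain ⟨v, hv, c, hc, rfl⟩ := S.r3 x
    obtain ⟨y, hy, d, hd, rfl⟩ := Q.onto hu₀U hu₀ hv
    rw [phi_mul S.F.sq, (hc a ha : a • c = c), S.F.sq, mul_one, phi_mul S.F.sq, (S.hA a ha).1 d hd.1, S.F.sq, mul_one]
    exact haY _ (hXY (mem_im.2 ⟨y, hy, rfl⟩)) a ha
  refine ⟨hR.trans fun x hx => ?_, (Subgroup.card_le_of_le hR).trans hc1⟩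
  obtain ⟨b, hb, rfl⟩ := mem_im.1 hx
  exact mem_br hb m

/-- `|A₁| ≤ |[M, A₁]|` -/
theorem card_le_br : Nat.card A₁ ≤ Nat.card (br A₁ : Subgroup M) := by
  obtain ⟨z, hz, hz1⟩ := Q.S.exists_mu
  have h1 := card_im Q.S.F.sq Q.S.hA z
  rw [(Q.S.key hz hz1).1, card_bot, mul_one] at h1
  rw [← h1]
  refine Subgroup.card_le_of_le fun x hx => ?_
  obtain ⟨b, hb, rfl⟩ := mem_im.1 hx
  exact mem_br hb z

/-- `C_A(μ) ≠ 1` if `A₁ ≠ A` -/
theorem fix_ne {X : Subgroup H} (hX : X ≤ A) (h1 : A₁ ≤ X) (hne : A₁ ≠ X) :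
    X ⊓ fixingSubgroup H ((h • lam : Subgroup M) : Set M) ≠ ⊥ := by
  intro hc
  have h2 := Q.split_sup hX h1
  rw [hc, sup_bot_eq] at h2
  exact hne h2

/-- `A₁ ≠ A` : `|[M, A₁]| = s` -/
theorem card_br (hT : FattS lam U A) (hex : fo M A = Nat.card M) (hne : A₁ ≠ A) :
    Nat.card (br A₁ : Subgroup M) = Nat.card lam := by
  obtain ⟨A₃, h3P, f₃, h₃, Q₃⟩ := Q.I.exists_at (X := A ⊓ fixingSubgroup H ((h • lam : Subgroup M) : Set M))
    inf_le_left (Q.fix_ne le_rfl Q.le hne) (Q.split_exact hT le_rfl Q.le hex)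
  refine le_antisymm (Q.br_le_of_fix hT Q₃ fun b hb v hv => Q.fix_V le_rfl (h3P hb) v hv).2 ?_
  rw [← Q.card_A hT]
  exact Q.card_le_br

/-- `A₁ ≠ A` : `[M, A] = [M, A₁]` -/
theorem br_eq (hT : FattS lam U A) (hex : fo M A = Nat.card M) (hne : A₁ ≠ A) : (br A : Subgroup M) ≤ br A₁ := by
  set P := A ⊓ fixingSubgroup H ((h • lam : Subgroup M) : Set M) with hP
  -- `[M, X] ≤ [M, A₁]` for all exact `X ≤ P`
  have hall : ∀ (n : ℕ) (X : Subgroup H), Nat.card X ≤ n → X ≤ P → fo M X = Nat.card M → br X ≤ (br A₁ : Subgroup M) := by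
    intro n
    induction n with
    | zero =>
      intro X hX
      have : 0 < Nat.card X := Nat.card_pos
      omega
    | succ n ih =>
      intro X hX hXP hXex
      have hXA : X ≤ A := hXP.trans inf_le_left
      by_cases hX1 : X = ⊥
      · subst hX1
        refine br_le fun a ha m => ?_
        rw [mem_bot.1 ha, one_smul, Q.S.F.sq]
        exact one_mem _
      obtain ⟨A₃, h1, f₃, h₃, Q₃⟩ := Q.I.exists_at hXA hX1 hXex
      have h2 := Q₃.split_exact hT hXA h1 hXex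
      have h3 := Q₃.split_card hXA h1
      have h4 : 2 ≤ Nat.card A₃ := by
        rw [Q₃.card_A hT]
        have := Q.S.F.four
        omega
      have h5 : 0 < Nat.card (X ⊓ fixingSubgroup H ((h₃ • lam : Subgroup M) : Set M) : Subgroup H) := Nat.card_pos
      have h6 := ih (X ⊓ fixingSubgroup H ((h₃ • lam : Subgroup M) : Set M)) (by nlinarith)
        (inf_le_left.trans hXP) h2
      have h7 : (br A₃ : Subgroup M) ≤ br A₁ := by
        have h8 := (Q.br_le_of_fix hT Q₃ fun b hb v hv => Q.fix_V le_rfl (hXP (h1 hb)) v hv).1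
        have hne3 : A₃ ≠ A := by
          rintro rfl
          have h9 : A₁ ≤ P := Q.le.trans (h1.trans hXP)
          have h10 := Q.split_inf (X := A₃)
          rw [← hP, inf_eq_left.2 h9] at h10
          apply Q.S.hmov
          have h11 : f = 1 := mem_bot.1 (h10 ▸ Q.S.hf)
          rw [h11, one_smul]
        have h9 := eq_of_le_of_card_ge h8 (by rw [Q.card_br hT hex hne, Q₃.card_br hT hex hne3])
        exact h9.ge
      refine br_le fun a ha m => ?_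
      rw [← Q₃.split_sup hXA h1] at ha
      have h8 : A₃ ⊔ X ⊓ fixingSubgroup H ((h₃ • lam : Subgroup M) : Set M) ≤ bx H Q.S.F.sq U (br A₁) := by
        refine sup_le ?_ ?_
        · exact fun a ha => ⟨Q.I.hA a (hXA (h1 ha)), fun m => h7 (mem_br ha m)⟩
        · exact fun a ha => ⟨Q.I.hA a (hXA ha.1), fun m => h6 (mem_br ha m)⟩
      exact (h8 ha).2 m
  have hPex := Q.split_exact hT le_rfl Q.le hex
  have h1 := hall _ P le_rfl le_rfl hPex
  refine br_le fun a ha m => ?_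
  rw [← Q.split_sup le_rfl Q.le] at ha
  have h8 : A₁ ⊔ P ≤ bx H Q.S.F.sq U (br A₁) := by
    refine sup_le ?_ ?_
    · exact fun a ha => ⟨Q.S.hA a ha, fun m => mem_br ha m⟩
    · exact fun a ha => ⟨Q.I.hA a ha.1, fun m => h1 (mem_br ha m)⟩
  exact (h8 ha).2 m

/-- (4') : `A` is an atom -/
theorem br_le_of_eq {J : Subgroup H} (j : JJ J lam U) (hT : FattS lam U A) (hJ : ∀ k ∈ J, ∀ a ∈ A, k * a * k⁻¹ ∈ A)
    (he : A₁ = A) : br A₁ ≤ lam := by
  subst he
  have S := Q.S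
  have hff : ∀ a ∈ A₁, a * a = 1 := fun a ha => S.F.bb_sq (S.hA a ha)
  -- a fixed point of `J`
  obtain ⟨s₀, hs₀, hs₀1, hs₀J⟩ : ∃ s₀ ∈ A₁, s₀ ≠ 1 ∧ ∀ k ∈ J, k * s₀ * k⁻¹ = s₀ := by
    have hfact : Fact (Nat.Prime 2) := ⟨Nat.prime_two⟩
    have h1 : IsPGroup 2 A₁ := by
      intro a
      refine ⟨1, Subtype.ext ?_⟩
      change (a : H) ^ (2 ^ 1) = 1
      rw [pow_one, pow_two, hff a a.2]
    have h2 : A₁ ≠ ⊥ := by
      intro hc
      have h3 := S.hf
      rw [hc, mem_bot] at h3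
      apply S.hmov
      rw [h3, one_smul]
    have h3 : J ≤ normalizer (A₁ : Set H) := by
      intro k hk
      rw [mem_normalizer_iff]
      intro a
      refine ⟨hJ k hk a, fun ha => ?_⟩
      have h4 := hJ k⁻¹ (J.inv_mem hk) _ ha
      have h5 : k⁻¹ * (k * a * k⁻¹) * k⁻¹⁻¹ = a := by group
      rwa [h5] at h4
    have h4 := PLocal.OffenderStep.inf_centralizer_ne_bot A₁ J h1 j.p2 h3 h2
    obtain ⟨s₀, ⟨hs, hsJ⟩, hs1⟩ := ne_bot_iff'.1 h4
    refine ⟨s₀, hs, hs1, fun k hk => ?_⟩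
    rw [mem_centralizer_iff.1 hsJ k hk, mul_inv_cancel_right]
  have hcard : Nat.card A₁ = Nat.card lam := Q.card_A hT
  -- `[M, s₀] ≤ lam`
  have h1 : ∀ m : M, s₀ • m * m ∈ lam := by
    set Z := (dh S.F.sq s₀).range with hZ
    have hZc : Nat.card Z = Nat.card lam := by
      have h3 := Subgroup.index_ker (dh S.F.sq s₀)
      have h4 := Subgroup.card_mul_index (dh S.F.sq s₀).ker
      have h5 : (dh S.F.sq s₀).ker = cv M (A₁ : Set H) := by
        ext m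
        rw [MonoidHom.mem_ker]
        constructor
        · intro h6
          exact Q.cv_eq hs₀ hs₀1 (eqm S.F.sq h6)
        · intro h6
          change s₀ • m * m = 1
          rw [(h6 s₀ hs₀ : s₀ • m = m), S.F.sq]
      have h6 := S.hex
      unfold fo at h6
      rw [h3, h5, ← h6, mul_comm] at h4
      rw [← hcard]
      exact Nat.eq_of_mul_eq_mul_right Nat.card_pos h4
    have hZJ : ∀ x ∈ Z, ∀ k ∈ J, k • x ∈ Z := by
      intro x hx k hk
      obtain ⟨m, rfl⟩ := mem_dh.1 hx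
      refine mem_dh.2 ⟨k • m, ?_⟩
      have h4 := hs₀J k hk
      have h5 : s₀ * k = k * s₀ := by
        have h6 : s₀ * k = k * s₀ * k⁻¹ * k := by rw [h4]
        rw [h6, inv_mul_cancel_right]
      rw [smul_mul', ← mul_smul, ← mul_smul, h5]
    intro m
    by_contra hm
    have hmZ : s₀ • m * m ∈ Z := mem_dh.2 ⟨m, rfl⟩
    have h3 : lam ≤ Z := by
      intro z hz
      obtain ⟨k, hk, hku⟩ := j.on _ ((S.hA s₀ hs₀).2 m) hm z hz
      have h4 := hZJ _ hmZ k hk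
      rw [hku] at h4
      have h5 := mul_mem hmZ h4
      rwa [aa S.F.sq] at h5
    have h4 : lam = Z := eq_of_le_of_card_ge h3 hZc.le
    exact hm (h4 ▸ hmZ)
  -- `J` is trivial on `M/C_M(A₁)`
  have h2 : ∀ k ∈ J, ∀ m : M, k • m * m ∈ cv M (A₁ : Set H) := by
    intro k hk m
    apply Q.cv_eq hs₀ hs₀1
    have h3 : s₀ • k • m = k • s₀ • m := by
      have h4 := hs₀J k hk
      have h5 : s₀ * k = k * s₀ := by
        have h6 : s₀ * k = k * s₀ * k⁻¹ * k := by rw [h4]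
        rw [h6, inv_mul_cancel_right]
      rw [← mul_smul, h5, mul_smul]
    have h4 : s₀ • m = (s₀ • m * m) * m := by rw [mul_assoc, S.F.sq, mul_one]
    have h5 : k • s₀ • m = (s₀ • m * m) * k • m := by
      rw [h4, smul_mul', j.fx k hk _ (h1 m)]
      rw [mul_assoc (s₀ • m * m), S.F.sq, mul_one]
    rw [smul_mul', h3, h5]
    rw [mul_assoc, S.F.mc (k • m) (s₀ • m), ← mul_assoc, mul_assoc (s₀ • m) m, S.F.mc m (s₀ • m), ← mul_assoc,
      S.F.sq, one_mul, S.F.mc]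
  refine br_le fun s' hs' m => ?_
  by_contra hu
  set u := s' • m * m with hu'
  have huU : u ∈ U := (S.hA s' hs').2 m
  have hA0 : ∀ x ∈ A₁ ⊓ bx H S.F.sq U lam, IsBB U x := fun x hx => hx.2.1
  have h3 : lam ≤ (im S.F.sq hA0 m).range := by
    intro z hz
    obtain ⟨k, hk, hku⟩ := j.on u huU hu z hz
    have hks : k * s' * k⁻¹ ∈ A₁ := hJ k hk s' hs'
    have h4 : ∀ n : M, (k * s' * k⁻¹) • n * n = k • (s' • n * n) := by
      intro n
      have h5 := h2 k⁻¹ (J.inv_mem hk) n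
      have h6 : k⁻¹ • n = (k⁻¹ • n * n) * n := by rw [mul_assoc, S.F.sq, mul_one]
      have h7 : s' • k⁻¹ • n = (k⁻¹ • n) * (s' • n * n) := by
        have h8 : s' • (k⁻¹ • n * n) = k⁻¹ • n * n := h5 s' hs'
        rw [h6, smul_mul', h8]
        simp only [mul_assoc]
        rw [S.F.mc n (s' • n * n), mul_assoc, S.F.sq, mul_one]
      rw [mul_smul, mul_smul, h7, smul_mul', smul_inv_smul, S.F.mc n, mul_assoc, S.F.sq, mul_one]
    have h5 : ∀ n : M, (k * s' * k⁻¹ * s') • n * n = k • (s' • n * n) * (s' • n * n) := by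
      intro n
      rw [smul_mul_self S.F.sq, (S.hA _ hks).1 _ ((S.hA s' hs').2 n), h4, S.F.mc]
    refine mem_im.2 ⟨k * s' * k⁻¹ * s', ⟨mul_mem hks hs', S.hA _ (mul_mem hks hs'), fun n => ?_⟩, ?_⟩
    · rw [h5]
      exact j.cl k hk _ ((S.hA s' hs').2 n)
    · rw [h5, hku, S.F.mc u z, mul_assoc, S.F.sq, mul_one]
  have h4 := card_im S.F.sq hA0 m
  have h5 : Nat.card A₁ ≤ Nat.card (A₁ ⊓ bx H S.F.sq U lam : Subgroup H) := by
    rw [hcard, ← h4]
    exact (Subgroup.card_le_of_le h3).trans (Nat.le_mul_of_pos_right _ Nat.card_pos)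
  have h6 : A₁ ⊓ bx H S.F.sq U lam = A₁ := eq_of_le_of_card_ge inf_le_left h5
  have h7 : s' ∈ A₁ ⊓ bx H S.F.sq U lam := by
    rw [h6]
    exact hs'
  exact hu (h7.2.2 m)

end At

namespace Inn

variable {lam U : Subgroup M} {A : Subgroup H} (I : Inn H lam U A) [Finite H] [Finite M] {J : Subgroup H}
include I

/-- `A` invariant under `J` -/
theorem br_le_of_inv (j : JJ J lam U) (hT : FattS lam U A) (hex : fo M A = Nat.card M)
    (hJ : ∀ k ∈ J, ∀ a ∈ A, k * a * k⁻¹ ∈ A) : br A ≤ lam := by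
  by_cases hA1 : A = ⊥
  · subst hA1
    refine br_le fun a ha m => ?_
    rw [mem_bot.1 ha, one_smul, I.F.sq]
    exact one_mem _
  obtain ⟨A₁, h1, f, h, Q⟩ := I.exists_at le_rfl hA1 hex
  by_cases he : A₁ = A
  · rw [← he]
    exact Q.br_le_of_eq j hT hJ he
  -- `|[M, A]| = s`, `[M, A]` is `J`-invariant
  have h2 := Q.br_eq hT hex he
  have h3 : Nat.card (br A : Subgroup M) ≤ Nat.card lam := (Subgroup.card_le_of_le h2).trans (Q.card_br hT hex he).le
  have hAU : (br A : Subgroup M) ≤ U := br_le fun a ha m => (I.hA a ha).2 m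
  have hbJ : ∀ k ∈ J, ∀ r ∈ (br A : Subgroup M), k • r ∈ (br A : Subgroup M) := by
    intro k hk r hr
    have h4 : k • (br A : Subgroup M) ≤ br A := by
      rw [← br_cj]
      refine br_mono fun x hx => ?_
      rw [mem_cj] at hx
      have h5 := hJ k hk _ hx
      have h6 : k * (k⁻¹ * x * k) * k⁻¹ = x := by group
      rwa [h6] at h5
    exact h4 (smul_mem_pointwise_smul _ _ _ hr)
  intro r hr
  by_contra hrl
  have h4 : lam ≤ br A := by
    intro z hz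
    obtain ⟨k, hk, hkr⟩ := j.on r (hAU hr) hrl z hz
    have h5 := mul_mem hr (hbJ k hk r hr)
    rwa [hkr, aa I.F.sq] at h5
  have h5 : lam = br A := eq_of_le_of_card_ge h4 h3
  exact hrl (h5 ▸ hr)

omit I [Finite H] [Finite M] in
/-- the elements of `C_H(U) ∩ C_H(M/U)` with `[M, b] ≤ E` centralising the `U_v`, `v ∈ E` a line vector -/
theorem exists_ce (sq : ∀ m : M, m * m = 1) (lam U E : Subgroup M) : ∃ K : Subgroup H, ∀ b : H, b ∈ K ↔
    b ∈ bx H sq U E ∧ ∀ v ∈ E, v ≠ 1 → ∀ g : H, v ∈ g • lam → ∀ u ∈ g • U, b • u = u :=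
  ⟨{ carrier := {b | b ∈ bx H sq U E ∧ ∀ v ∈ E, v ≠ 1 → ∀ g : H, v ∈ g • lam → ∀ u ∈ g • U, b • u = u}
     one_mem' := ⟨one_mem _, fun _ _ _ _ _ _ _ => one_smul _ _⟩
     mul_mem' := by
      rintro a b ⟨h1, h2⟩ ⟨h3, h4⟩
      exact ⟨mul_mem h1 h3, fun v hv hv1 g hg u hu => by
        rw [mul_smul, h4 v hv hv1 g hg u hu, h2 v hv hv1 g hg u hu]⟩
     inv_mem' := by
      rintro a ⟨h1, h2⟩
      exact ⟨Subgroup.inv_mem _ h1, fun v hv hv1 g hg u hu => by
        rw [inv_smul_eq_iff, h2 v hv hv1 g hg u hu]⟩ }, fun _ => Iff.rfl⟩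

/-- **THEOREM INN_s** -/
theorem br_le_lam (j : JJ J lam U) (hT : Fatt lam U A) (hex : fo M A = Nat.card M) : br A ≤ lam := by
  set E : Subgroup M := br A ⊔ lam with hE
  obtain ⟨K, hK⟩ := exists_ce (H := H) I.F.sq lam U E
  have hEU : E ≤ U := sup_le (br_le fun a ha m => (I.hA a ha).2 m) I.F.le
  have hAK : A ≤ K := fun a ha => (hK a).2
    ⟨⟨I.hA a ha, fun m => mem_sup_left (mem_br ha m)⟩, fun v hv hv1 g hg u hu => I.cen v hv hv1 g hg a ha u hu⟩
  have hEJ : ∀ k ∈ J, ∀ v ∈ E, k • v ∈ E := by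
    intro k hk v hv
    have h1 : k • v = (k • v * v) * v := by rw [mul_assoc, I.F.sq, mul_one]
    rw [h1]
    exact mul_mem (mem_sup_right (j.cl k hk v (hEU hv))) hv
  have hKbb : ∀ b ∈ K, IsBB U b := fun b hb => ((hK b).1 hb).1.1
  have hKJ : ∀ k ∈ J, ∀ b ∈ K, k * b * k⁻¹ ∈ K := by
    intro k hk b hb
    obtain ⟨⟨h1, h2⟩, h3⟩ := (hK b).1 hb
    have hkU : k • U = U := I.F.semi_U (j.semi hk)
    refine (hK _).2 ⟨⟨?_, fun m => ?_⟩, fun v hv hv1 g hg u hu => ?_⟩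
    · have h4 := isBB_conj k h1
      rwa [hkU] at h4
    · have h4 : (k * b * k⁻¹) • m * m = k • (b • k⁻¹ • m * k⁻¹ • m) := by
        rw [smul_mul', smul_inv_smul, mul_smul, mul_smul]
      rw [h4]
      exact hEJ k hk _ (h2 _)
    · rw [mul_smul, mul_smul, h3 (k⁻¹ • v) (hEJ _ (J.inv_mem hk) v hv) ?_ (k⁻¹ * g) ?_ (k⁻¹ • u) ?_, smul_inv_smul]
      · intro hc
        apply hv1
        rw [inv_smul_eq_iff, smul_one] at hc
        exact hc
      · rw [mul_smul]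
        exact smul_mem_pointwise_smul _ _ _ hg
      · rw [mul_smul]
        exact smul_mem_pointwise_smul _ _ _ hu
  -- the largest exact subgroup of `K`
  obtain ⟨B, ⟨hBK, hBex⟩, hBmax⟩ := Set.exists_max_image
    {X : Subgroup H | X ≤ K ∧ fo M X = Nat.card M} (fun X => Nat.card X) (Set.toFinite _) ⟨A, hAK, hex⟩
  have hjoin : ∀ X ≤ K, fo M X = Nat.card M → X ≤ B := by
    intro X hX hXex
    have h1 := fo_mul_le (M := M) (I.F.le_norm (fun x hx => hKbb x (hX hx)) fun x hx => hKbb x (hBK hx))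
    have h2 : fo M (X ⊔ B) ≤ Nat.card M := I.F.no _ fun x hx => hKbb x (sup_le hX hBK hx)
    have h3 : fo M (X ⊓ B) ≤ Nat.card M := I.F.no _ fun x hx => hKbb x (hX hx.1)
    rw [hXex, hBex] at h1
    have h4 : fo M (X ⊔ B) = Nat.card M := by
      apply le_antisymm h2
      have h5 : Nat.card M * Nat.card M ≤ fo M (X ⊔ B) * Nat.card M := h1.trans (Nat.mul_le_mul_left _ h3)
      exact Nat.le_of_mul_le_mul_right h5 Nat.card_pos
    have h5 := hBmax (X ⊔ B) ⟨sup_le hX hBK, h4⟩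
    have h6 : B = X ⊔ B := eq_of_le_of_card_ge le_sup_right h5
    rw [h6]
    exact le_sup_left
  have hBE : (br B : Subgroup M) ≤ E := br_le fun b hb m => ((hK b).1 (hBK hb)).1.2 m
  have IB : Inn H lam U B := by
    refine ⟨I.F, I.sym, I.bs, fun b hb => hKbb b (hBK hb), fun v hv hv1 g hg b hb u hu => ?_⟩
    exact ((hK b).1 (hBK hb)).2 v (sup_le hBE le_sup_right hv) hv1 g hg u hu
  have hTB : FattS lam U B := by
    intro g hgU v hv hv1 hg
    have hvE := sup_le hBE le_sup_right hv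
    obtain ⟨r, hr, l, hl, rfl⟩ := (mem_sup' I.F.sq).1 hvE
    by_cases hrl : r ∈ lam
    · apply I.F.ti
      exact ne_bot_iff'.2 ⟨_, ⟨hg, mul_mem hrl hl⟩, hv1⟩
    · obtain ⟨k, hk, hkr⟩ := j.on r (hEU (mem_sup_left hr)) hrl l hl
      have h1 : r ∈ (k⁻¹ * g) • lam := by
        rw [mul_smul, mem_pointwise_smul_iff_inv_smul_mem, inv_inv, hkr]
        exact hg
      have h2 : (k⁻¹ * g) • U = U := by
        rw [mul_smul, hgU, inv_smul_eq_iff, I.F.semi_U (j.semi hk)]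
      have h3 := hT _ h2 r hr (fun hc => hrl (hc ▸ one_mem _)) h1
      exact absurd (h3 ▸ h1) hrl
  have hBJ : ∀ k ∈ J, ∀ b ∈ B, k * b * k⁻¹ ∈ B := by
    intro k hk b hb
    have h1 : cj k B ≤ B := by
      refine hjoin _ ?_ ?_
      · intro x hx
        rw [mem_cj] at hx
        have h2 := hKJ k hk _ (hBK hx)
        have h3 : k * (k⁻¹ * x * k) * k⁻¹ = x := by group
        rwa [h3] at h2
      · exact (Star.map_fo k B).trans hBex
    apply h1
    rw [mem_cj]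
    have : k⁻¹ * (k * b * k⁻¹) * k = b := by group
    rw [this]
    exact hb
  exact (br_mono (hjoin A hAK hex)).trans (IB.br_le_of_inv j hTB hBex hBJ)

end Inn

end Cfsg.Agent.Omega.NO3S.OneS
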