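import Cfsg.Agent.Omega.NO3S.OneS.Sit

/-!
# THEOREM ONE_s (OMEGA, NO-3S, `s ≥ 4`; #18570 of helper49): REG; K-free

`U = D × [m, A]` for every `1 ≠ m ∈ μ`, `M = C_M(A) V`, and the images under `f₁`.
-/

set_option autoImplicit false
set_option maxHeartbeats 400000

namespace Cfsg.Agent.Omega.NO3S.OneS

open Subgroup Cfsg.Agent.ClassTwoFusion.Quad Cfsg.Agent.Omega.NOThree.NoOver
open scoped Pointwise

variable {H : Type*} [Group H] {M : Type*} [Group M] [MulDistribMulAction H M]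

/-- `b ↦ [z, b]` -/
def im (sq : ∀ m : M, m * m = 1) {U : Subgroup M} {P : Subgroup H} (hP : ∀ b ∈ P, IsBB U b) (z : M) : P →* M where
  toFun b := (b : H) • z * z
  map_one' := by
    change (1 : H) • z * z = 1
    rw [one_smul, sq]
  map_mul' a b := by
    change ((a : H) * (b : H)) • z * z = _
    rw [smul_mul_self sq, (hP a a.2).1 _ ((hP b b.2).2 z)]
    exact OneS.mc sq _ _

theorem mem_im {sq : ∀ m : M, m * m = 1} {U : Subgroup M} {P : Subgroup H} {hP : ∀ b ∈ P, IsBB U b} {z x : M} :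
    x ∈ (im sq hP z).range ↔ ∃ b ∈ P, x = b • z * z := by
  constructor
  · rintro ⟨b, hb⟩
    exact ⟨b, b.2, hb.symm⟩
  · rintro ⟨b, hb, e⟩
    exact ⟨⟨b, hb⟩, e.symm⟩

theorem card_im (sq : ∀ m : M, m * m = 1) {U : Subgroup M} {P : Subgroup H} (hP : ∀ b ∈ P, IsBB U b) (z : M) :
    Nat.card (im sq hP z).range * Nat.card (P ⊓ MulAction.stabilizer H z : Subgroup H) = Nat.card P := by
  have h1 : (im sq hP z).ker = (P ⊓ MulAction.stabilizer H z).subgroupOf P := by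
    ext b
    rw [MonoidHom.mem_ker, mem_subgroupOf]
    change (b : H) • z * z = 1 ↔ _
    constructor
    · intro h
      exact ⟨b.2, MulAction.mem_stabilizer_iff.2 (eqm sq h)⟩
    · rintro ⟨-, h⟩
      rw [MulAction.mem_stabilizer_iff.1 h, sq]
  have h2 := Subgroup.index_ker (im sq hP z)
  have h3 := Subgroup.card_mul_index (im sq hP z).ker
  rw [h2, h1, Nat.card_congr (subgroupOfEquivOfLe inf_le_left).toEquiv] at h3
  rw [mul_comm]
  exact h3

namespace Sit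

variable {lam U : Subgroup M} {A : Subgroup H} {f h : H} (S : Sit lam U A f h)
include S

theorem wdA (v : M) (hv : v ∈ U ⊓ h • U) (hv' : v ∈ br A) : v ∉ Lam H lam := S.wd v hv (mem_sup_left hv')

theorem f1_im {a : H} (z : M) : (h * f) • (a • z * z) =
    ((h * f) * a * (h * f)) • ((h * f) • z) * ((h * f) • z) := by
  rw [smul_mul', mul_smul ((h * f) * a) (h * f), S.f1_f1, mul_smul (h * f) a]

theorem key [Finite H] [Finite M] {z : M} (hz : z ∈ h • lam) (hz1 : z ≠ 1) :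
    A ⊓ MulAction.stabilizer H z = ⊥ ∧ (h * f) • (im S.F.sq S.hA z).range ⊔ cv M (A : Set H) = ⊤ := by
  set X := (im S.F.sq S.hA z).range with hX
  set P0 := A ⊓ MulAction.stabilizer H z with hP0
  have hP0f : ∀ b ∈ P0, ∀ z' ∈ h • lam, b • z' = z' := fun b hb z' hz' =>
    S.two_mu (S.hA b hb.1) hz hz1 (MulAction.mem_stabilizer_iff.1 hb.2) hz'
  have hXD : ∀ x ∈ X, x ∈ U ⊓ h • U → x = 1 := by
    intro x hx hd
    obtain ⟨b, hb, rfl⟩ := mem_im.1 hx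
    rw [S.i1 S.hA S.wdA hb hz hd, S.F.sq]
  have hYc : (h * f) • X ⊓ cv M (A : Set H) = ⊥ := by
    rw [eq_bot_iff_forall]
    rintro y ⟨⟨x, hx, rfl⟩, hy⟩
    change (h * f) • x ∈ _ at hy
    change (h * f) • x = 1
    obtain ⟨b, hb, rfl⟩ := mem_im.1 hx
    have h1 : (h * f) • (b • z * z) ∈ h • U := S.f1_mem_V ((S.hA b hb).2 z)
    have h2 := S.cvf h1 (hy f S.hf)
    have h3 := S.f1_D h2
    rw [S.f1_f1] at h3
    rw [← h3] at h2
    rw [hXD _ hx h2, smul_one]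
  have hYP : (h * f) • X ≤ cv M (P0 : Set H) := by
    rintro _ ⟨x, hx, rfl⟩
    change (h * f) • x ∈ _
    obtain ⟨b, hb, rfl⟩ := mem_im.1 hx
    intro c hc
    rw [S.f1_im]
    exact S.i2 S.hA S.wdA hc.1 (hP0f c hc) (S.B_bb (S.f1_cj hb)) (S.f1_mem_lam hz)
  have h1 := card_im S.F.sq S.hA z
  rw [← hX, ← hP0] at h1
  have hAP : cv M (A : Set H) ≤ cv M (P0 : Set H) := cv_anti (SetLike.coe_subset_coe.2 inf_le_left)
  have h2 := card_mul_le ((h * f) • X) (cv M (A : Set H)) (cv M (P0 : Set H)) hYP hAP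
  rw [hYc, card_bot, one_mul, card_smul_eq] at h2
  have h3 : P0 = ⊥ := by
    by_contra hne
    have h4 : P0 ≠ A := by
      intro hc
      apply S.hmov
      apply smul_eq_of_fix
      exact hP0f f (hc ▸ S.hf)
    have h5 := S.hmin P0 inf_le_left hne h4
    have h6 : fo M A ≤ fo M P0 := by
      unfold fo
      rw [← h1, mul_assoc, mul_left_comm]
      exact Nat.mul_le_mul_left _ h2
    rw [S.hex] at h6
    omega
  refine ⟨h3, ?_⟩
  rw [h3, card_bot, mul_one] at h1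
  have hn : (h * f) • X ≤ normalizer (cv M (A : Set H) : Set M) := by
    haveI := nrm S.F.sq (cv M (A : Set H))
    rw [normalizer_eq_top]
    exact le_top
  have h4 := card_sup_mul ((h * f) • X) (cv M (A : Set H)) hn
  rw [hYc, card_bot, mul_one, card_smul_eq, h1] at h4
  have h5 := S.hex
  unfold fo at h5
  rw [h5] at h4
  exact eq_top_of_card_eq _ h4

variable [Finite H] [Finite M]

/-- elements of `A` with a nontrivial fixed point in `μ` are trivial -/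
theorem eq_one_of {z : M} (hz : z ∈ h • lam) (hz1 : z ≠ 1) {a : H} (ha : a ∈ A) (haz : a • z = z) : a = 1 := by
  have h1 : a ∈ A ⊓ MulAction.stabilizer H z := ⟨ha, MulAction.mem_stabilizer_iff.2 haz⟩
  rw [(S.key hz hz1).1] at h1
  exact mem_bot.1 h1

theorem exists_mu : ∃ z ∈ h • lam, z ≠ 1 := by
  obtain ⟨z, hz, hz1⟩ := S.F.exists_ne
  exact ⟨_, S.f1_mem_mu hz, S.f1_ne hz1⟩

theorem r3 (m : M) : ∃ v ∈ h • U, ∃ c ∈ cv M (A : Set H), m = v * c := by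
  obtain ⟨z, hz, hz1⟩ := S.exists_mu
  have h1 : m ∈ (h * f) • (im S.F.sq S.hA z).range ⊔ cv M (A : Set H) := by
    rw [(S.key hz hz1).2]
    trivial
  obtain ⟨y, ⟨x, hx, rfl⟩, c, hc, e⟩ := (mem_sup' S.F.sq).1 h1
  obtain ⟨b, hb, rfl⟩ := mem_im.1 hx
  exact ⟨_, S.f1_mem_V ((S.hA b hb).2 z), c, hc, e⟩

/-- `M = U C_M(B)` -/
theorem r4 (m : M) : ∃ u ∈ U, ∃ c ∈ cv M ((cj (h * f) A : Subgroup H) : Set H), m = u * c := by
  obtain ⟨v, hv, c, hc, e⟩ := S.r3 ((h * f) • m)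
  refine ⟨_, S.f1_mem_U hv, (h * f) • c, ?_, ?_⟩
  · intro b hb
    have h1 := hc _ (S.f1_cj' hb)
    rw [mul_smul, mul_smul] at h1
    rw [← S.f1_f1 (b • (h * f) • c), h1]
  · rw [← smul_mul', ← e, S.f1_f1]

/-- `V = [z', B] D` -/
theorem r2 {z : M} (hz : z ∈ lam) (hz1 : z ≠ 1) {v : M} (hv : v ∈ h • U) :
    ∃ b ∈ cj (h * f) A, ∃ d ∈ U ⊓ h • U, v = (b • z * z) * d := by
  have hz' := S.f1_mem_mu hz
  have h1 : v ∈ (h * f) • (im S.F.sq S.hA ((h * f) • z)).range ⊔ cv M (A : Set H) := by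
    rw [(S.key hz' (S.f1_ne hz1)).2]
    trivial
  obtain ⟨y, ⟨x, hx, rfl⟩, c, hc, e⟩ := (mem_sup' S.F.sq).1 h1
  obtain ⟨b, hb, rfl⟩ := mem_im.1 hx
  change v = (h * f) • _ * c at e
  have h2 : (h * f) • (b • (h * f) • z * (h * f) • z) ∈ h • U := S.f1_mem_V ((S.hA b hb).2 _)
  have h3 : c ∈ h • U := by
    have : c = (h * f) • (b • (h * f) • z * (h * f) • z) * v := by rw [e, aa S.F.sq]
    rw [this]
    exact mul_mem h2 hv
  refine ⟨_, S.f1_cj hb, c, S.cvf h3 (hc f S.hf), ?_⟩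
  rw [e, S.f1_im, S.f1_f1]

/-- `U = [z, A] D` -/
theorem r1 {z : M} (hz : z ∈ h • lam) (hz1 : z ≠ 1) {u : M} (hu : u ∈ U) :
    ∃ a ∈ A, ∃ d ∈ U ⊓ h • U, u = (a • z * z) * d := by
  obtain ⟨b, hb, d, hd, e⟩ := S.r2 (S.f1_mem_lam hz) (S.f1_ne hz1) (S.f1_mem_V hu)
  refine ⟨_, S.f1_cj' hb, d, hd, ?_⟩
  rw [← S.f1_f1 u, e, smul_mul', S.f1_D hd, S.f1_im, S.f1_f1]

end Sit

end Cfsg.Agent.Omega.NO3S.OneS
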