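import Cfsg.Agent.Omega.NO3S.OneS.Base

/-!
# THEOREM ONE_s (OMEGA, NO-3S, `s ≥ 4`; #18570 of helper49): the situation and REG; K-free

`Sit lam U A f h` : `A` a minimal exact subgroup of `C_H(U) ∩ C_H(M/U)`, `f ∈ A` inverts `h` of odd order and moves
`h • lam`, and (WD).  `f₁ = h * f` swaps `lam`, `h • lam`.
-/

set_option autoImplicit false
set_option maxHeartbeats 400000

namespace Cfsg.Agent.Omega.NO3S.OneS

open Subgroup Cfsg.Agent.ClassTwoFusion.Quad Cfsg.Agent.Omega.NOThree.NoOver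
open scoped Pointwise

variable {H : Type*} [Group H] {M : Type*} [Group M] [MulDistribMulAction H M]

omit [Group H] [MulDistribMulAction H M] in
theorem nrm (sq : ∀ m : M, m * m = 1) (X : Subgroup M) : X.Normal :=
  ⟨fun x hx g => by rw [OneS.mc sq g x, mul_inv_cancel_right]; exact hx⟩

omit [Group H] [MulDistribMulAction H M] in
theorem mem_sup' (sq : ∀ m : M, m * m = 1) {X Y : Subgroup M} {m : M} :
    m ∈ X ⊔ Y ↔ ∃ x ∈ X, ∃ y ∈ Y, m = x * y := by
  have := nrm sq Y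
  rw [mem_sup_of_normal_right]
  constructor
  · rintro ⟨y, hy, z, hz, e⟩
    exact ⟨y, hy, z, hz, e.symm⟩
  · rintro ⟨y, hy, z, hz, e⟩
    exact ⟨y, hy, z, hz, e.symm⟩

/-- the situation -/
structure Sit (lam U : Subgroup M) (A : Subgroup H) (f h : H) : Prop where
  F : Fr H lam U
  hA : ∀ a ∈ A, IsBB U a
  hex : fo M A = Nat.card M
  hmin : ∀ X ≤ A, X ≠ ⊥ → X ≠ A → fo M X < Nat.card M
  hf : f ∈ A
  hodd : Odd (orderOf h)
  hinv : f * h * f = h⁻¹
  hmov : f • h • lam ≠ h • lam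
  wd : ∀ v ∈ U ⊓ h • U, v ∈ br A ⊔ lam → v ∉ Lam H lam

namespace Sit

variable {lam U : Subgroup M} {A : Subgroup H} {f h : H} (S : Sit lam U A f h)
include S

theorem ff : f * f = 1 := S.F.bb_sq (S.hA f S.hf)

theorem f_fix {u : M} (hu : u ∈ U) : f • u = u := (S.hA f S.hf).1 u hu

theorem f1_sq : (h * f) * (h * f) = 1 := by
  have h1 : (h * f) * (h * f) = h * (f * h * f) := by group
  rw [h1, S.hinv, mul_inv_cancel]

theorem f1_inv : (h * f)⁻¹ = h * f := inv_eq_of_mul_eq_one_right S.f1_sq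

theorem f1_f1 (m : M) : (h * f) • (h * f) • m = m := by rw [← mul_smul, S.f1_sq, one_smul]

theorem f1_U : (h * f) • U = h • U := by
  rw [mul_smul, smul_eq_of_fix (fun x hx => S.f_fix hx)]

theorem f1_lam : (h * f) • lam = h • lam := by
  rw [mul_smul, smul_eq_of_fix (fun x hx => S.f_fix (S.F.le hx))]

theorem f1_V : (h * f) • h • U = U := by
  rw [← S.f1_U, ← mul_smul, S.f1_sq, one_smul]

theorem f1_mu : (h * f) • h • lam = lam := by
  rw [← S.f1_lam, ← mul_smul, S.f1_sq, one_smul]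

theorem f1_mem_V {u : M} (hu : u ∈ U) : (h * f) • u ∈ h • U := by
  rw [← S.f1_U]
  exact smul_mem_pointwise_smul _ _ _ hu

theorem f1_mem_U {u : M} (hu : u ∈ h • U) : (h * f) • u ∈ U := by
  have := smul_mem_pointwise_smul u (h * f) _ hu
  rwa [S.f1_V] at this

theorem f1_mem_mu {u : M} (hu : u ∈ lam) : (h * f) • u ∈ h • lam := by
  rw [← S.f1_lam]
  exact smul_mem_pointwise_smul _ _ _ hu

theorem f1_mem_lam {u : M} (hu : u ∈ h • lam) : (h * f) • u ∈ lam := by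
  have := smul_mem_pointwise_smul u (h * f) _ hu
  rwa [S.f1_mu] at this

theorem f1_ne {u : M} (hu : u ≠ 1) : (h * f) • u ≠ 1 := by
  intro hc
  apply hu
  rw [← S.f1_f1 u, hc, smul_one]

theorem mu_le : h • lam ≤ h • U := smul_mono_right h S.F.le

theorem h_mem (K : Subgroup H) (h1 : f ∈ K) (h2 : h * f * h⁻¹ ∈ K) : h ∈ K := by
  have h3 : h ^ 2 ∈ K := by
    have h4 := K.mul_mem h1 h2
    have h5 : f * (h * f * h⁻¹) = (f * h * f) * h⁻¹ := by group
    rw [h5, S.hinv] at h4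
    have h6 := K.inv_mem h4
    have h7 : (h⁻¹ * h⁻¹)⁻¹ = h ^ 2 := by group
    rwa [h7] at h6
  obtain ⟨k, hk⟩ := S.hodd
  have h4 : (h ^ 2) ^ (k + 1) = h := by
    rw [← pow_mul]
    have : 2 * (k + 1) = orderOf h + 1 := by omega
    rw [this, pow_succ, pow_orderOf_eq_one, one_mul]
  rw [← h4]
  exact K.pow_mem h3 _

theorem g_bb : IsBB (h • U) (h * f * h⁻¹) := isBB_conj h (S.hA f S.hf)

theorem h_fix {v : M} (hv : v ∈ h • U) (hfv : f • v = v) : h • v = v := by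
  have h1 := S.h_mem (MulAction.stabilizer H v) (MulAction.mem_stabilizer_iff.2 hfv)
    (MulAction.mem_stabilizer_iff.2 (S.g_bb.1 v hv))
  exact MulAction.mem_stabilizer_iff.1 h1

theorem cvf {v : M} (hv : v ∈ h • U) (hfv : f • v = v) : v ∈ U ⊓ h • U := by
  refine ⟨?_, hv⟩
  have h1 := mem_pointwise_smul_iff_inv_smul_mem.1 hv
  rwa [inv_smul_eq_iff.2 (S.h_fix hv hfv).symm] at h1

theorem f1_D {d : M} (hd : d ∈ U ⊓ h • U) : (h * f) • d = d := by
  rw [mul_smul, S.f_fix hd.1, S.h_fix hd.2 (S.f_fix hd.1)]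

theorem lam_ne : lam ≠ h • lam := by
  intro hc
  apply S.hmov
  rw [← hc, smul_eq_of_fix (fun x hx => S.f_fix (S.F.le hx))]

theorem lam_D {z : M} (hz : z ∈ lam) (hd : z ∈ U ⊓ h • U) : z = 1 := by
  by_contra hne
  have h1 : z ∈ h • lam := by
    rw [← S.f1_D hd]
    exact S.f1_mem_mu hz
  have h2 : (1 : H) • lam ⊓ h • lam ≠ ⊥ := by
    refine ne_bot_iff'.2 ⟨z, ⟨?_, h1⟩, hne⟩
    rw [one_smul]
    exact hz
  have h3 := S.F.ti' h2
  rw [one_smul] at h3
  exact S.lam_ne h3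

theorem B_bb {b : H} (hb : b ∈ cj (h * f) A) : IsBB (h • U) b := by
  rw [mem_cj] at hb
  have h1 := isBB_conj (h * f) (S.hA _ hb)
  rw [S.f1_U] at h1
  have h2 : (h * f) * ((h * f)⁻¹ * b * (h * f)) * (h * f)⁻¹ = b := by group
  rwa [h2] at h1

theorem f1_cj {a : H} (ha : a ∈ A) : (h * f) * a * (h * f) ∈ cj (h * f) A := by
  rw [mem_cj]
  have : (h * f)⁻¹ * ((h * f) * a * (h * f)) * (h * f) = a * ((h * f) * (h * f)) := by group
  rw [this, S.f1_sq, mul_one]
  exact ha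

theorem f1_cj' {b : H} (hb : b ∈ cj (h * f) A) : (h * f) * b * (h * f) ∈ A := by
  rw [mem_cj, S.f1_inv] at hb
  exact hb

theorem two_mu {b : H} (hb : IsBB U b) {z : M} (hz : z ∈ h • lam) (hz1 : z ≠ 1) (hbz : b • z = z) {z' : M}
    (hz' : z' ∈ h • lam) : b • z' = z' := by
  have h1 : (b * h) • lam ⊓ h • lam ≠ ⊥ := by
    refine ne_bot_iff'.2 ⟨z, ⟨?_, hz⟩, hz1⟩
    rw [mul_smul, ← hbz]
    exact smul_mem_pointwise_smul _ _ _ hz
  have h2 := S.F.ti' h1
  rw [mul_smul] at h2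
  exact S.F.two' hb h2 hz'

/-- (i) -/
theorem i1 {P : Subgroup H} (hP : ∀ b ∈ P, IsBB U b) (wdP : ∀ v ∈ U ⊓ h • U, v ∈ br P → v ∉ Lam H lam) {b : H}
    (hb : b ∈ P) {z : M} (hz : z ∈ h • lam) (hd : b • z * z ∈ U ⊓ h • U) : b • z = z := by
  by_contra hne
  have hz1 : z ≠ 1 := by
    rintro rfl
    exact hne (smul_one _)
  have hv1 : b • z * z ≠ 1 := fun hc => hne (eqm S.F.sq hc)
  have hbb := hP b hb
  have h1 : (b * h) • lam ≠ h • lam := by
    intro hc
    rw [mul_smul] at hc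
    exact hne (S.F.two' hbb hc hz)
  have h2 : b • z ∈ (b * h) • lam := by
    rw [mul_smul]
    exact smul_mem_pointwise_smul _ _ _ hz
  have h3 : b • z ∈ h • U := by
    have : b • z = (b • z * z) * z := by rw [mul_assoc, S.F.sq, mul_one]
    rw [this]
    exact mul_mem hd.2 (S.mu_le hz)
  have h4 : b • z ≠ 1 := by
    intro hc
    apply hz1
    rw [smul_eq_iff_eq_inv_smul, smul_one] at hc
    exact hc
  exact wdP _ hd (mem_br hb z) (S.F.coll' h1 h2 h3 h4 (mul_mem (mem_sup_left h2) (mem_sup_right hz)) hv1)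

theorem smul_V {b : H} (hfix : ∀ z ∈ h • lam, b • z = z) : b • h • U = h • U := by
  have h1 : (b * h) • lam = h • lam := by rw [mul_smul, smul_eq_of_fix hfix]
  have h2 := S.F.stab' h1
  rwa [mul_smul] at h2

/-- (ii) -/
theorem i2 {P : Subgroup H} (hP : ∀ b ∈ P, IsBB U b) (wdP : ∀ v ∈ U ⊓ h • U, v ∈ br P → v ∉ Lam H lam) {b : H}
    (hb : b ∈ P) (hfix : ∀ z ∈ h • lam, b • z = z) {g : H} (hg : IsBB (h • U) g) {z : M} (hz : z ∈ lam) :
    b • (g • z * z) = g • z * z := by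
  by_contra hne
  have hz1 : z ≠ 1 := by
    rintro rfl
    apply hne
    rw [smul_one, one_mul, smul_one]
  have hbz : b • z = z := (hP b hb).1 z (S.F.le hz)
  set v := b • (g • z * z) * (g • z * z) with hv
  have hv' : v = b • g • z * g • z := by
    rw [hv, smul_mul', hbz, mul_assoc, S.F.mc (g • z) z, aa S.F.sq]
  have hvU : v ∈ U := (hP b hb).2 _
  have hvV : v ∈ h • U := by
    refine mul_mem ?_ (hg.2 z)
    rw [← S.smul_V hfix]
    exact smul_mem_pointwise_smul _ _ _ (hg.2 z)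
  have hv1 : v ≠ 1 := fun hc => hne (eqm S.F.sq hc)
  have hbb := hP b hb
  have h1 : (b * g) • lam ≠ g • lam := by
    intro hc
    rw [mul_smul] at hc
    have := S.F.two' hbb hc (smul_mem_pointwise_smul z g _ hz)
    apply hv1
    rw [hv', this, S.F.sq]
  have h2 : b • g • z ∈ (b * g) • lam := by
    rw [mul_smul]
    exact smul_mem_pointwise_smul _ _ _ (smul_mem_pointwise_smul _ _ _ hz)
  have h3 : b • g • z ∈ g • U := by
    have h5 : b • g • z = v * g • z := by rw [hv', mul_assoc, S.F.sq, mul_one]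
    rw [h5]
    refine mul_mem ?_ (smul_mem_pointwise_smul _ _ _ (S.F.le hz))
    rw [← hg.1 v hvV]
    exact smul_mem_pointwise_smul _ _ _ hvU
  have h4 : b • g • z ≠ 1 := by
    intro hc
    apply hz1
    rw [smul_eq_iff_eq_inv_smul, smul_one, smul_eq_iff_eq_inv_smul, smul_one] at hc
    exact hc
  refine wdP v ⟨hvU, hvV⟩ (mem_br hb _) (S.F.coll' h1 h2 h3 h4 ?_ hv1)
  rw [hv']
  exact mul_mem (mem_sup_left h2) (mem_sup_right (smul_mem_pointwise_smul _ _ _ hz))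

end Sit

end Cfsg.Agent.Omega.NO3S.OneS
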